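import Cfsg.Agent.Yc.C

/-! The wreathed case: finite checks. -/

set_option autoImplicit false
set_option maxRecDepth 100000
set_option maxHeartbeats 0
set_option Elab.async false
set_option synthInstance.maxSize 4000
set_option synthInstance.maxHeartbeats 400000

namespace CF.Yc

open CF.Perm.SS CF.Comp CF.W2 CF.Yo

def CX0 : List Perm.SS.Lvl := [
  ⟨0, [[6, 7, 5, 4, 3, 2, 0, 1, 14, 15, 13, 12, 11, 10, 8, 9], [0, 1, 7, 6, 3, 2, 4, 5, 8, 9, 15, 14, 11, 10, 12, 13], [0, 1, 4, 5, 2, 3, 7, 6, 8, 9, 12, 13, 10, 11, 15, 14], [8, 9, 10, 11, 12, 13, 14, 15, 0, 1, 2, 3, 4, 5, 6, 7], [1, 0, 3, 2, 5, 4, 7, 6, 8, 9, 10, 11, 12, 13, 14, 15], [0, 1, 3, 2, 5, 4, 6, 7, 8, 9, 10, 11, 12, 13, 14, 15], [6, 7, 5, 4, 3, 2, 0, 1, 8, 9, 10, 11, 12, 13, 14, 15]],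
   [(0, [], [0, 1, 2, 3, 4, 5, 6, 7, 8, 9, 10, 11, 12, 13, 14, 15]), (6, [0], [6, 7, 5, 4, 3, 2, 0, 1, 14, 15, 13, 12, 11, 10, 8, 9]), (8, [3], [8, 9, 10, 11, 12, 13, 14, 15, 0, 1, 2, 3, 4, 5, 6, 7]), (1, [4], [1, 0, 3, 2, 5, 4, 7, 6, 8, 9, 10, 11, 12, 13, 14, 15]), (3, [0, 1], [6, 7, 1, 0, 4, 5, 3, 2, 14, 15, 9, 8, 12, 13, 11, 10]), (7, [0, 2], [6, 7, 3, 2, 5, 4, 1, 0, 14, 15, 11, 10, 13, 12, 9, 8]), (14, [0, 3], [14, 15, 13, 12, 11, 10, 8, 9, 6, 7, 5, 4, 3, 2, 0, 1]), (9, [4, 3], [8, 9, 10, 11, 12, 13, 14, 15, 1, 0, 3, 2, 5, 4, 7, 6]), (4, [0, 1, 0], [3, 2, 5, 4, 0, 1, 6, 7, 11, 10, 13, 12, 8, 9, 14, 15]), (5, [0, 1, 2], [6, 7, 4, 5, 1, 0, 2, 3, 14, 15, 12, 13, 9, 8, 10, 11]), (11, [0, 1, 3], [14, 15, 9, 8, 12, 13, 11, 10, 6, 7, 1, 0, 4, 5, 3, 2]), (2, [0, 1, 4], [7,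 6, 0, 1, 5, 4, 2, 3, 14, 15, 9, 8, 12, 13, 11, 10]), (15, [0, 2, 3], [14, 15, 11, 10, 13, 12, 9, 8, 6, 7, 3, 2, 5, 4, 1, 0]), (12, [0, 1, 0, 3], [11, 10, 13, 12, 8, 9, 14, 15, 3, 2, 5, 4, 0, 1, 6, 7]), (13, [0, 1, 2, 3], [14, 15, 12, 13, 9, 8, 10, 11, 6, 7, 4, 5, 1, 0, 2, 3]), (10, [0, 1, 4, 3], [14, 15, 9, 8, 12, 13, 11, 10, 7, 6, 0, 1, 5, 4, 2, 3])],
   [[1], [2], [5], [0, 6]]⟩,
  ⟨2, [[0, 1, 7, 6, 3, 2, 4, 5, 8, 9, 15, 14, 11, 10, 12, 13], [0, 1, 4, 5, 2, 3, 7, 6, 8, 9, 12, 13, 10, 11, 15, 14], [0, 1, 3, 2, 5, 4, 6, 7, 8, 9, 10, 11, 12, 13, 14, 15], [0, 1, 2, 3, 4, 5, 6, 7, 14, 15, 13, 12, 11, 10, 8, 9]],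
   [(2, [], [0, 1, 2, 3, 4, 5, 6, 7, 8, 9, 10, 11, 12, 13, 14, 15]), (5, [0], [0, 1, 7, 6, 3, 2, 4, 5, 8, 9, 15, 14, 11, 10, 12, 13]), (4, [1], [0, 1, 4, 5, 2, 3, 7, 6, 8, 9, 12, 13, 10, 11, 15, 14]), (3, [2], [0, 1, 3, 2, 5, 4, 6, 7, 8, 9, 10, 11, 12, 13, 14, 15]), (7, [0, 0], [0, 1, 5, 4, 6, 7, 3, 2, 8, 9, 13, 12, 14, 15, 11, 10]), (6, [1, 0], [0, 1, 6, 7, 5, 4, 2, 3, 8, 9, 14, 15, 13, 12, 10, 11])],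
   [[3], [2, 0, 1], [1, 3, 1]]⟩,
  ⟨4, [[0, 1, 2, 3, 4, 5, 6, 7, 14, 15, 13, 12, 11, 10, 8, 9], [0, 1, 2, 3, 7, 6, 4, 5, 8, 9, 11, 10, 15, 14, 13, 12], [0, 1, 2, 3, 4, 5, 6, 7, 15, 14, 13, 12, 11, 10, 9, 8]],
   [(4, [], [0, 1, 2, 3, 4, 5, 6, 7, 8, 9, 10, 11, 12, 13, 14, 15]), (6, [1], [0, 1, 2, 3, 7, 6, 4, 5, 8, 9, 11, 10, 15, 14, 13, 12]), (5, [1, 1], [0, 1, 2, 3, 5, 4, 7, 6, 8, 9, 10, 11, 12, 13, 14, 15]), (7, [1, 1, 1], [0, 1, 2, 3, 6, 7, 5, 4, 8, 9, 11, 10, 15, 14, 13, 12])],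
   [[0], [2], [1, 0, 1, 1, 1], [1, 2, 1, 1, 1]]⟩,
  ⟨8, [[0, 1, 2, 3, 4, 5, 6, 7, 14, 15, 13, 12, 11, 10, 8, 9], [0, 1, 2, 3, 4, 5, 6, 7, 15, 14, 13, 12, 11, 10, 9, 8], [0, 1, 2, 3, 4, 5, 6, 7, 13, 12, 15, 14, 9, 8, 11, 10], [0, 1, 2, 3, 4, 5, 6, 7, 12, 13, 15, 14, 8, 9, 11, 10]],
   [(8, [], [0, 1, 2, 3, 4, 5, 6, 7, 8, 9, 10, 11, 12, 13, 14, 15]), (14, [0], [0, 1, 2, 3, 4, 5, 6, 7, 14, 15, 13, 12, 11, 10, 8, 9]), (15, [1], [0, 1, 2, 3, 4, 5, 6, 7, 15, 14, 13, 12, 11, 10, 9, 8]), (13, [2], [0, 1, 2, 3, 4, 5, 6, 7, 13, 12, 15, 14, 9, 8, 11, 10]), (12, [3], [0, 1, 2, 3, 4, 5, 6, 7, 12, 13, 15, 14, 8, 9, 11, 10]), (9, [0, 1], [0, 1, 2, 3, 4, 5, 6, 7, 9, 8, 10, 11, 12, 13, 15, 14]), (11, [0, 2], [0, 1, 2, 3, 4, 5, 6, 7, 10, 11, 9, 8, 15, 14, 12, 13]), (10, [1, 2], [0, 1, 2,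 3, 4, 5, 6, 7, 10, 11, 8, 9, 14, 15, 12, 13])],
   [[0, 2, 3, 0], [1, 2, 0, 2]]⟩,
  ⟨10, [[0, 1, 2, 3, 4, 5, 6, 7, 8, 9, 11, 10, 12, 13, 15, 14], [0, 1, 2, 3, 4, 5, 6, 7, 8, 9, 11, 10, 13, 12, 14, 15]],
   [(10, [], [0, 1, 2, 3, 4, 5, 6, 7, 8, 9, 10, 11, 12, 13, 14, 15]), (11, [0], [0, 1, 2, 3, 4, 5, 6, 7, 8, 9, 11, 10, 12, 13, 15, 14])],
   [[0, 1]]⟩,
  ⟨12, [[0, 1, 2, 3, 4, 5, 6, 7, 8, 9, 10, 11, 13, 12, 15, 14]],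
   [(12, [], [0, 1, 2, 3, 4, 5, 6, 7, 8, 9, 10, 11, 12, 13, 14, 15]), (13, [0], [0, 1, 2, 3, 4, 5, 6, 7, 8, 9, 10, 11, 13, 12, 15, 14])],
   []⟩]
theorem CX0_ok : chainOK P16.n CX0 = true := by decide +kernel
abbrev X0 : Type := PE P16 (gens CX0)
noncomputable def mkX0 (l : List ℕ) (h : (valb P16.n l && sift P16.n CX0 l) = true := by decide +kernel) : X0 :=
  PE.mk' l (PE.ex_of CX0_ok rfl h)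
noncomputable def TX0_0_0 : X0 := mkX0 [0, 1, 2, 3, 4, 5, 6, 7, 8, 9, 10, 11, 12, 13, 14, 15]
noncomputable def TX0_0_6 : X0 := mkX0 [6, 7, 5, 4, 3, 2, 0, 1, 14, 15, 13, 12, 11, 10, 8, 9]
noncomputable def TX0_0_8 : X0 := mkX0 [8, 9, 10, 11, 12, 13, 14, 15, 0, 1, 2, 3, 4, 5, 6, 7]
noncomputable def TX0_0_1 : X0 := mkX0 [1, 0, 3, 2, 5, 4, 7, 6, 8, 9, 10, 11, 12, 13, 14, 15]
noncomputable def TX0_0_3 : X0 := mkX0 [3, 2, 7, 6, 4, 5, 0, 1, 11, 10, 15, 14, 12, 13, 8, 9]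
noncomputable def TX0_0_7 : X0 := mkX0 [7, 6, 3, 2, 5, 4, 0, 1, 15, 14, 11, 10, 13, 12, 8, 9]
noncomputable def TX0_0_14 : X0 := mkX0 [14, 15, 13, 12, 11, 10, 8, 9, 6, 7, 5, 4, 3, 2, 0, 1]
noncomputable def TX0_0_9 : X0 := mkX0 [9, 8, 11, 10, 13, 12, 15, 14, 0, 1, 2, 3, 4, 5, 6, 7]
noncomputable def TX0_0_4 : X0 := mkX0 [4, 5, 1, 0, 3, 2, 6, 7, 12, 13, 9, 8, 11, 10, 14, 15]
noncomputable def TX0_0_5 : X0 := mkX0 [5, 4, 6, 7, 2, 3, 0, 1, 13, 12, 14, 15, 10, 11, 8, 9]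
noncomputable def TX0_0_11 : X0 := mkX0 [11, 10, 15, 14, 12, 13, 8, 9, 3, 2, 7, 6, 4, 5, 0, 1]
noncomputable def TX0_0_2 : X0 := mkX0 [2, 3, 6, 7, 5, 4, 1, 0, 11, 10, 15, 14, 12, 13, 8, 9]
noncomputable def TX0_0_15 : X0 := mkX0 [15, 14, 11, 10, 13, 12, 8, 9, 7, 6, 3, 2, 5, 4, 0, 1]
noncomputable def TX0_0_12 : X0 := mkX0 [12, 13, 9, 8, 11, 10, 14, 15, 4, 5, 1, 0, 3, 2, 6, 7]
noncomputable def TX0_0_13 : X0 := mkX0 [13, 12, 14, 15, 10, 11, 8, 9, 5, 4, 6, 7, 2, 3, 0, 1]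
noncomputable def TX0_0_10 : X0 := mkX0 [10, 11, 14, 15, 13, 12, 9, 8, 3, 2, 7, 6, 4, 5, 0, 1]
noncomputable def TX0_1_5 : X0 := mkX0 [0, 1, 5, 4, 6, 7, 3, 2, 8, 9, 13, 12, 14, 15, 11, 10]
noncomputable def TX0_1_4 : X0 := mkX0 [0, 1, 4, 5, 2, 3, 7, 6, 8, 9, 12, 13, 10, 11, 15, 14]
noncomputable def TX0_1_3 : X0 := mkX0 [0, 1, 3, 2, 5, 4, 6, 7, 8, 9, 10, 11, 12, 13, 14, 15]
noncomputable def TX0_1_7 : X0 := mkX0 [0, 1, 7, 6, 3, 2, 4, 5, 8, 9, 15, 14, 11, 10, 12, 13]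
noncomputable def TX0_1_6 : X0 := mkX0 [0, 1, 6, 7, 5, 4, 2, 3, 8, 9, 14, 15, 13, 12, 10, 11]
noncomputable def TX0_2_6 : X0 := mkX0 [0, 1, 2, 3, 6, 7, 5, 4, 8, 9, 11, 10, 15, 14, 13, 12]
noncomputable def TX0_2_5 : X0 := mkX0 [0, 1, 2, 3, 5, 4, 7, 6, 8, 9, 10, 11, 12, 13, 14, 15]
noncomputable def TX0_2_7 : X0 := mkX0 [0, 1, 2, 3, 7, 6, 4, 5, 8, 9, 11, 10, 15, 14, 13, 12]
noncomputable def TX0_3_14 : X0 := mkX0 [0, 1, 2, 3, 4, 5, 6, 7, 14, 15, 13, 12, 11, 10, 8, 9]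
noncomputable def TX0_3_15 : X0 := mkX0 [0, 1, 2, 3, 4, 5, 6, 7, 15, 14, 13, 12, 11, 10, 9, 8]
noncomputable def TX0_3_13 : X0 := mkX0 [0, 1, 2, 3, 4, 5, 6, 7, 13, 12, 15, 14, 9, 8, 11, 10]
noncomputable def TX0_3_12 : X0 := mkX0 [0, 1, 2, 3, 4, 5, 6, 7, 12, 13, 15, 14, 8, 9, 11, 10]
noncomputable def TX0_3_9 : X0 := mkX0 [0, 1, 2, 3, 4, 5, 6, 7, 9, 8, 10, 11, 12, 13, 15, 14]
noncomputable def TX0_3_11 : X0 := mkX0 [0, 1, 2, 3, 4, 5, 6, 7, 11, 10, 8, 9, 14, 15, 13, 12]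
noncomputable def TX0_3_10 : X0 := mkX0 [0, 1, 2, 3, 4, 5, 6, 7, 10, 11, 8, 9, 14, 15, 12, 13]
noncomputable def TX0_4_11 : X0 := mkX0 [0, 1, 2, 3, 4, 5, 6, 7, 8, 9, 11, 10, 12, 13, 15, 14]
noncomputable def TX0_5_13 : X0 := mkX0 [0, 1, 2, 3, 4, 5, 6, 7, 8, 9, 10, 11, 13, 12, 15, 14]
noncomputable def TX0 : List (List X0) := [[TX0_0_0, TX0_0_6, TX0_0_8, TX0_0_1, TX0_0_3, TX0_0_7, TX0_0_14, TX0_0_9, TX0_0_4, TX0_0_5, TX0_0_11, TX0_0_2, TX0_0_15, TX0_0_12, TX0_0_13, TX0_0_10],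
  [TX0_0_0, TX0_1_5, TX0_1_4, TX0_1_3, TX0_1_7, TX0_1_6],
  [TX0_0_0, TX0_2_6, TX0_2_5, TX0_2_7],
  [TX0_0_0, TX0_3_14, TX0_3_15, TX0_3_13, TX0_3_12, TX0_3_9, TX0_3_11, TX0_3_10],
  [TX0_0_0, TX0_4_11],
  [TX0_0_0, TX0_5_13]]
theorem TX0_tr : PE.Tr TX0 := PE.tr_of CX0_ok rfl (by decide +kernel)
def CR1 : List Perm.SS.Lvl := [
  ⟨0, [[1, 0, 3, 2, 4, 5, 6, 7, 8, 9, 10, 11, 12, 13, 14, 15], [2, 3, 0, 1, 6, 7, 4, 5, 8, 9, 10, 11, 12, 13, 14, 15], [4, 5, 6, 7, 0, 1, 2, 3, 8, 9, 10, 11, 12, 13, 14, 15], [1, 0, 2, 3, 4, 5, 7, 6, 8, 9, 10, 11, 12, 13, 14, 15], [0, 1, 2, 3, 4, 5, 6, 7, 9, 8, 11, 10, 12, 13, 14, 15], [0, 1, 2, 3, 4, 5, 6, 7, 10, 11, 8, 9, 14, 15, 12, 13], [0, 1, 2, 3, 4, 5, 6, 7, 12, 13, 14, 15, 8, 9, 10, 11], [0, 1, 2, 3, 4, 5, 6, 7, 9, 8, 10, 11, 12, 13, 15, 14]],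
   [(0, [], [0, 1, 2, 3, 4, 5, 6, 7, 8, 9, 10, 11, 12, 13, 14, 15]), (1, [0], [1, 0, 3, 2, 4, 5, 6, 7, 8, 9, 10, 11, 12, 13, 14, 15]), (2, [1], [2, 3, 0, 1, 6, 7, 4, 5, 8, 9, 10, 11, 12, 13, 14, 15]), (4, [2], [4, 5, 6, 7, 0, 1, 2, 3, 8, 9, 10, 11, 12, 13, 14, 15]), (3, [0, 1], [3, 2, 1, 0, 6, 7, 4, 5, 8, 9, 10, 11, 12, 13, 14, 15]), (5, [0, 2], [4, 5, 6, 7, 1, 0, 3, 2, 8, 9, 10, 11, 12, 13, 14, 15]), (6, [1, 2], [6, 7, 4, 5, 2, 3, 0, 1, 8, 9, 10, 11, 12, 13, 14, 15]), (7, [0, 1, 2], [6, 7, 4, 5, 3, 2, 1, 0, 8, 9, 10, 11, 12, 13, 14, 15])],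
   [[4], [5], [6], [7], [0, 3], [1, 3, 1]]⟩,
  ⟨2, [[0, 1, 2, 3, 4, 5, 6, 7, 9, 8, 11, 10, 12, 13, 14, 15], [0, 1, 2, 3, 4, 5, 6, 7, 10, 11, 8, 9, 14, 15, 12, 13], [0, 1, 2, 3, 4, 5, 6, 7, 12, 13, 14, 15, 8, 9, 10, 11], [0, 1, 2, 3, 4, 5, 6, 7, 9, 8, 10, 11, 12, 13, 15, 14], [0, 1, 3, 2, 4, 5, 7, 6, 8, 9, 10, 11, 12, 13, 14, 15], [0, 1, 3, 2, 5, 4, 6, 7, 8, 9, 10, 11, 12, 13, 14, 15]],
   [(2, [], [0, 1, 2, 3, 4, 5, 6, 7, 8, 9, 10, 11, 12, 13, 14, 15]), (3, [4], [0, 1, 3, 2, 4, 5, 7, 6, 8, 9, 10, 11, 12, 13, 14, 15])],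
   [[0], [1], [2], [3], [4, 5]]⟩,
  ⟨4, [[0, 1, 2, 3, 4, 5, 6, 7, 9, 8, 11, 10, 12, 13, 14, 15], [0, 1, 2, 3, 4, 5, 6, 7, 10, 11, 8, 9, 14, 15, 12, 13], [0, 1, 2, 3, 4, 5, 6, 7, 12, 13, 14, 15, 8, 9, 10, 11], [0, 1, 2, 3, 4, 5, 6, 7, 9, 8, 10, 11, 12, 13, 15, 14], [0, 1, 2, 3, 5, 4, 7, 6, 8, 9, 10, 11, 12, 13, 14, 15]],
   [(4, [], [0, 1, 2, 3, 4, 5, 6, 7, 8, 9, 10, 11, 12, 13, 14, 15]), (5, [4], [0, 1, 2, 3, 5, 4, 7, 6, 8, 9, 10, 11, 12, 13, 14, 15])],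
   [[0], [1], [2], [3]]⟩,
  ⟨8, [[0, 1, 2, 3, 4, 5, 6, 7, 9, 8, 11, 10, 12, 13, 14, 15], [0, 1, 2, 3, 4, 5, 6, 7, 10, 11, 8, 9, 14, 15, 12, 13], [0, 1, 2, 3, 4, 5, 6, 7, 12, 13, 14, 15, 8, 9, 10, 11], [0, 1, 2, 3, 4, 5, 6, 7, 9, 8, 10, 11, 12, 13, 15, 14]],
   [(8, [], [0, 1, 2, 3, 4, 5, 6, 7, 8, 9, 10, 11, 12, 13, 14, 15]), (9, [0], [0, 1, 2, 3, 4, 5, 6, 7, 9, 8, 11, 10, 12, 13, 14, 15]), (10, [1], [0, 1, 2, 3, 4, 5, 6, 7, 10, 11, 8, 9, 14, 15, 12, 13]), (12, [2], [0, 1, 2, 3, 4, 5, 6, 7, 12, 13, 14, 15, 8, 9, 10, 11]), (11, [0, 1], [0, 1, 2, 3, 4, 5, 6, 7, 11, 10, 9, 8, 14, 15, 12, 13]), (13, [0, 2], [0, 1, 2, 3, 4, 5, 6, 7, 12, 13, 14, 15, 9, 8, 11, 10]), (14, [1, 2], [0, 1, 2, 3, 4, 5, 6, 7, 14, 15, 12, 13, 10, 11, 8, 9]), (15, [0, 1, 2], [0, 1, 2, 3, 4, 5, 6, 7, 14,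 15, 12, 13, 11, 10, 9, 8])],
   [[0, 3], [1, 3, 1]]⟩,
  ⟨10, [[0, 1, 2, 3, 4, 5, 6, 7, 8, 9, 11, 10, 12, 13, 15, 14], [0, 1, 2, 3, 4, 5, 6, 7, 8, 9, 11, 10, 13, 12, 14, 15]],
   [(10, [], [0, 1, 2, 3, 4, 5, 6, 7, 8, 9, 10, 11, 12, 13, 14, 15]), (11, [0], [0, 1, 2, 3, 4, 5, 6, 7, 8, 9, 11, 10, 12, 13, 15, 14])],
   [[0, 1]]⟩,
  ⟨12, [[0, 1, 2, 3, 4, 5, 6, 7, 8, 9, 10, 11, 13, 12, 15, 14]],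
   [(12, [], [0, 1, 2, 3, 4, 5, 6, 7, 8, 9, 10, 11, 12, 13, 14, 15]), (13, [0], [0, 1, 2, 3, 4, 5, 6, 7, 8, 9, 10, 11, 13, 12, 15, 14])],
   []⟩]
theorem CR1_ok : chainOK P16.n CR1 = true := by decide +kernel
abbrev R1 : Type := PE P16 (gens CR1)
noncomputable def mkR1 (l : List ℕ) (h : (valb P16.n l && sift P16.n CR1 l) = true := by decide +kernel) : R1 :=
  PE.mk' l (PE.ex_of CR1_ok rfl h)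
noncomputable def TR1_0_0 : R1 := mkR1 [0, 1, 2, 3, 4, 5, 6, 7, 8, 9, 10, 11, 12, 13, 14, 15]
noncomputable def TR1_0_1 : R1 := mkR1 [1, 0, 3, 2, 4, 5, 6, 7, 8, 9, 10, 11, 12, 13, 14, 15]
noncomputable def TR1_0_2 : R1 := mkR1 [2, 3, 0, 1, 6, 7, 4, 5, 8, 9, 10, 11, 12, 13, 14, 15]
noncomputable def TR1_0_4 : R1 := mkR1 [4, 5, 6, 7, 0, 1, 2, 3, 8, 9, 10, 11, 12, 13, 14, 15]
noncomputable def TR1_0_3 : R1 := mkR1 [3, 2, 1, 0, 6, 7, 4, 5, 8, 9, 10, 11, 12, 13, 14, 15]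
noncomputable def TR1_0_5 : R1 := mkR1 [5, 4, 7, 6, 0, 1, 2, 3, 8, 9, 10, 11, 12, 13, 14, 15]
noncomputable def TR1_0_6 : R1 := mkR1 [6, 7, 4, 5, 2, 3, 0, 1, 8, 9, 10, 11, 12, 13, 14, 15]
noncomputable def TR1_0_7 : R1 := mkR1 [7, 6, 5, 4, 2, 3, 0, 1, 8, 9, 10, 11, 12, 13, 14, 15]
noncomputable def TR1_1_3 : R1 := mkR1 [0, 1, 3, 2, 4, 5, 7, 6, 8, 9, 10, 11, 12, 13, 14, 15]
noncomputable def TR1_2_5 : R1 := mkR1 [0, 1, 2, 3, 5, 4, 7, 6, 8, 9, 10, 11, 12, 13, 14, 15]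
noncomputable def TR1_3_9 : R1 := mkR1 [0, 1, 2, 3, 4, 5, 6, 7, 9, 8, 11, 10, 12, 13, 14, 15]
noncomputable def TR1_3_10 : R1 := mkR1 [0, 1, 2, 3, 4, 5, 6, 7, 10, 11, 8, 9, 14, 15, 12, 13]
noncomputable def TR1_3_12 : R1 := mkR1 [0, 1, 2, 3, 4, 5, 6, 7, 12, 13, 14, 15, 8, 9, 10, 11]
noncomputable def TR1_3_11 : R1 := mkR1 [0, 1, 2, 3, 4, 5, 6, 7, 11, 10, 9, 8, 14, 15, 12, 13]
noncomputable def TR1_3_13 : R1 := mkR1 [0, 1, 2, 3, 4, 5, 6, 7, 13, 12, 15, 14, 8, 9, 10, 11]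
noncomputable def TR1_3_14 : R1 := mkR1 [0, 1, 2, 3, 4, 5, 6, 7, 14, 15, 12, 13, 10, 11, 8, 9]
noncomputable def TR1_3_15 : R1 := mkR1 [0, 1, 2, 3, 4, 5, 6, 7, 15, 14, 13, 12, 10, 11, 8, 9]
noncomputable def TR1_4_11 : R1 := mkR1 [0, 1, 2, 3, 4, 5, 6, 7, 8, 9, 11, 10, 12, 13, 15, 14]
noncomputable def TR1_5_13 : R1 := mkR1 [0, 1, 2, 3, 4, 5, 6, 7, 8, 9, 10, 11, 13, 12, 15, 14]
noncomputable def TR1 : List (List R1) := [[TR1_0_0, TR1_0_1, TR1_0_2, TR1_0_4, TR1_0_3, TR1_0_5, TR1_0_6, TR1_0_7],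
  [TR1_0_0, TR1_1_3],
  [TR1_0_0, TR1_2_5],
  [TR1_0_0, TR1_3_9, TR1_3_10, TR1_3_12, TR1_3_11, TR1_3_13, TR1_3_14, TR1_3_15],
  [TR1_0_0, TR1_4_11],
  [TR1_0_0, TR1_5_13]]
theorem TR1_tr : PE.Tr TR1 := PE.tr_of CR1_ok rfl (by decide +kernel)
noncomputable instance enR1 : PE.Enm P16 (gens CR1) := ⟨TR1, TR1_tr⟩
theorem hiX : grp P16.n (gens CB0) ≤ grp P16.n (gens CX0) := PE.grp_le CX0_ok rfl (by decide +kernel)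
noncomputable def iX : B0 →* X0 := PE.incl hiX
theorem iX_inj : Function.Injective iX := PE.incl_inj _
theorem hiR : grp P16.n (gens CR1) ≤ grp P16.n (gens CX0) := PE.grp_le CX0_ok rfl (by decide +kernel)
noncomputable def iR : R1 →* X0 := PE.incl hiR
theorem iR_inj : Function.Injective iR := PE.incl_inj _
noncomputable def eX : X0 := iX eB0
noncomputable def sX : X0 := iX sB0
noncomputable def fX : X0 := iX fB0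
noncomputable def zX : X0 := iX zB0
noncomputable def xs : X0 := mkX0 [6, 7, 5, 4, 3, 2, 0, 1, 8, 9, 10, 11, 12, 13, 14, 15]
noncomputable def r1_19 : R1 := mkR1 [1, 0, 2, 3, 4, 5, 7, 6, 8, 9, 10, 11, 12, 13, 14, 15]
noncomputable def r1_20 : R1 := mkR1 [0, 1, 2, 3, 4, 5, 6, 7, 9, 8, 10, 11, 12, 13, 15, 14]
noncomputable def gR : List R1 := [TR1_0_1, TR1_0_2, TR1_0_4, r1_19, TR1_3_9, TR1_3_10, TR1_3_12, r1_20]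
noncomputable def zR : R1 := mkR1 [1, 0, 3, 2, 5, 4, 7, 6, 9, 8, 11, 10, 13, 12, 15, 14]
noncomputable def lA2 : List B0 := [eB0, zB0, fB0, sB0, b0_52]
theorem card_R1 : Nat.card R1 = 1024 :=
  (PE.card CR1_ok rfl).trans (by decide +kernel)

theorem topR : ∀ {M : Subgroup R1}, (∀ a ∈ gR, a ∈ M) → M = ⊤ :=
  PE.top_of (by decide +kernel)

theorem topX : ∀ {M : Subgroup X0}, (∀ a ∈ xs :: [ιB0, ρB0, sB0, eB0, fB0, nB0].map iX, a ∈ M) → M = ⊤ :=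
  PE.top_of (by decide +kernel)

noncomputable def x0_35 : X0 := mkX0 [4, 5, 6, 7, 0, 1, 2, 3, 12, 13, 14, 15, 8, 9, 10, 11]
noncomputable def b0_59 : B0 := mkB0 [4, 5, 6, 7, 0, 1, 2, 3, 12, 13, 14, 15, 8, 9, 10, 11]
noncomputable def x0_36 : X0 := mkX0 [2, 3, 0, 1, 6, 7, 4, 5, 10, 11, 8, 9, 14, 15, 12, 13]
noncomputable def b0_60 : B0 := mkB0 [2, 3, 0, 1, 6, 7, 4, 5, 10, 11, 8, 9, 14, 15, 12, 13]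
noncomputable def x0_37 : X0 := mkX0 [1, 0, 2, 3, 4, 5, 7, 6, 8, 9, 11, 10, 13, 12, 14, 15]
noncomputable def x0_38 : X0 := mkX0 [0, 1, 3, 2, 4, 5, 7, 6, 8, 9, 11, 10, 12, 13, 15, 14]
noncomputable def x0_39 : X0 := mkX0 [0, 1, 2, 3, 5, 4, 7, 6, 8, 9, 10, 11, 13, 12, 15, 14]
noncomputable def x0_40 : X0 := mkX0 [0, 1, 2, 3, 4, 5, 6, 7, 9, 8, 11, 10, 13, 12, 15, 14]
noncomputable def LPX : Tb X0 B0 := [(eX, eB0, tp 0 255),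
  (x0_35, b0_59, tp 0 15),
  (x0_36, b0_60, tp 0 3),
  (x0_37, b0_30, tp 0 1),
  (x0_38, b0_44, tp 2 4),
  (x0_39, b0_48, tp 4 16),
  (x0_40, TB0_3_9, tp 8 256)]
noncomputable def LP0 : Tb B0 Unit := [(eB0, (), tp 0 255),
  (b0_59, (), tp 0 15),
  (b0_60, (), tp 0 3),
  (b0_30, (), tp 0 1),
  (b0_44, (), tp 2 4),
  (b0_48, (), tp 4 16),
  (TB0_3_9, (), tp 8 256)]
noncomputable def x0_41 : X0 := mkX0 [4, 5, 6, 7, 0, 1, 2, 3, 8, 9, 10, 11, 12, 13, 14, 15]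
noncomputable def x0_42 : X0 := mkX0 [2, 3, 0, 1, 6, 7, 4, 5, 8, 9, 10, 11, 12, 13, 14, 15]
noncomputable def x0_43 : X0 := mkX0 [1, 0, 2, 3, 4, 5, 7, 6, 8, 9, 10, 11, 12, 13, 14, 15]
noncomputable def x0_44 : X0 := mkX0 [0, 1, 3, 2, 4, 5, 7, 6, 8, 9, 10, 11, 12, 13, 14, 15]
noncomputable def x0_45 : X0 := mkX0 [0, 1, 2, 3, 4, 5, 6, 7, 12, 13, 14, 15, 8, 9, 10, 11]
noncomputable def LRX : Tb X0 R1 := [(x0_41, TR1_0_4, tp 0 15),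
  (x0_42, TR1_0_2, tp 0 3),
  (x0_43, r1_19, tp 0 1),
  (x0_44, TR1_1_3, tp 2 4),
  (TX0_2_5, TR1_2_5, tp 4 16),
  (x0_45, TR1_3_12, tp 8 3840),
  (TX0_3_10, TR1_3_10, tp 8 768),
  (TX0_3_9, r1_20, tp 8 256),
  (TX0_4_11, TR1_4_11, tp 10 1024),
  (TX0_5_13, TR1_5_13, tp 12 4096)]
noncomputable def r1_22 : R1 := mkR1 [6, 7, 4, 5, 3, 2, 1, 0, 8, 9, 10, 11, 12, 13, 14, 15]
noncomputable def r1_23 : R1 := mkR1 [0, 1, 3, 2, 5, 4, 6, 7, 8, 9, 10, 11, 12, 13, 14, 15]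
noncomputable def r1_24 : R1 := mkR1 [0, 1, 2, 3, 4, 5, 6, 7, 14, 15, 12, 13, 11, 10, 9, 8]
noncomputable def r1_25 : R1 := mkR1 [0, 1, 2, 3, 4, 5, 6, 7, 8, 9, 11, 10, 13, 12, 14, 15]
noncomputable def L64 : Tb R1 Unit := [(r1_22, (), tp 0 3),
  (r1_19, (), tp 0 1),
  (r1_23, (), tp 2 4),
  (r1_24, (), tp 8 768),
  (r1_20, (), tp 8 256),
  (r1_25, (), tp 10 1024)]
noncomputable def b0_61 : B0 := mkB0 [5, 4, 7, 6, 1, 0, 3, 2, 12, 13, 14, 15, 8, 9, 10, 11]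
noncomputable def b0_62 : B0 := mkB0 [3, 2, 1, 0, 7, 6, 5, 4, 10, 11, 8, 9, 14, 15, 12, 13]
noncomputable def b0_63 : B0 := mkB0 [1, 0, 2, 3, 5, 4, 6, 7, 8, 9, 11, 10, 12, 13, 15, 14]
noncomputable def b0_64 : B0 := mkB0 [1, 0, 3, 2, 4, 5, 6, 7, 8, 9, 10, 11, 13, 12, 15, 14]
noncomputable def LX0 : List (B0 × B0) := [(eB0, TB0_0_14), (b0_59, b0_61), (b0_60, b0_62), (b0_30, b0_30), (b0_44, b0_63), (b0_48, b0_64), (TB0_3_9, TB0_3_9), (zB0, zB0)]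
noncomputable def r1_26 : R1 := mkR1 [0, 1, 2, 3, 4, 5, 6, 7, 10, 11, 8, 9, 15, 14, 13, 12]
noncomputable def r1_27 : R1 := mkR1 [0, 1, 2, 3, 4, 5, 6, 7, 10, 11, 9, 8, 14, 15, 13, 12]
noncomputable def r1_28 : R1 := mkR1 [0, 1, 2, 3, 4, 5, 6, 7, 10, 11, 9, 8, 15, 14, 12, 13]
noncomputable def r1_29 : R1 := mkR1 [0, 1, 2, 3, 4, 5, 6, 7, 12, 13, 14, 15, 9, 8, 11, 10]
noncomputable def r1_30 : R1 := mkR1 [0, 1, 2, 3, 4, 5, 6, 7, 12, 13, 15, 14, 8, 9, 11, 10]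
noncomputable def r1_31 : R1 := mkR1 [0, 1, 2, 3, 4, 5, 6, 7, 12, 13, 15, 14, 9, 8, 10, 11]
noncomputable def r1_32 : R1 := mkR1 [0, 1, 2, 3, 4, 5, 6, 7, 14, 15, 13, 12, 10, 11, 9, 8]
noncomputable def r1_33 : R1 := mkR1 [0, 1, 2, 3, 4, 5, 6, 7, 14, 15, 13, 12, 11, 10, 8, 9]
noncomputable def lu : List R1 := [1, TR1_5_13, TR1_4_11, r1_25, TR1_3_10, r1_26, r1_27, r1_28, TR1_3_12, r1_29, r1_30, r1_31, TR1_3_14, r1_24, r1_32, r1_33]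
noncomputable def r1_34 : R1 := mkR1 [0, 1, 2, 3, 5, 4, 7, 6, 8, 9, 10, 11, 13, 12, 15, 14]
noncomputable def r1_35 : R1 := mkR1 [0, 1, 2, 3, 5, 4, 7, 6, 10, 11, 8, 9, 14, 15, 12, 13]
noncomputable def r1_36 : R1 := mkR1 [0, 1, 2, 3, 5, 4, 7, 6, 10, 11, 8, 9, 15, 14, 13, 12]
noncomputable def r1_37 : R1 := mkR1 [2, 3, 0, 1, 6, 7, 4, 5, 8, 9, 10, 11, 13, 12, 15, 14]
noncomputable def r1_38 : R1 := mkR1 [2, 3, 0, 1, 6, 7, 4, 5, 10, 11, 8, 9, 14, 15, 12, 13]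
noncomputable def r1_39 : R1 := mkR1 [2, 3, 0, 1, 6, 7, 4, 5, 10, 11, 8, 9, 15, 14, 13, 12]
noncomputable def r1_40 : R1 := mkR1 [2, 3, 0, 1, 7, 6, 5, 4, 8, 9, 10, 11, 12, 13, 14, 15]
noncomputable def r1_41 : R1 := mkR1 [2, 3, 0, 1, 7, 6, 5, 4, 8, 9, 10, 11, 13, 12, 15, 14]
noncomputable def r1_42 : R1 := mkR1 [2, 3, 0, 1, 7, 6, 5, 4, 10, 11, 8, 9, 14, 15, 12, 13]
noncomputable def r1_43 : R1 := mkR1 [2, 3, 0, 1, 7, 6, 5, 4, 10, 11, 8, 9, 15, 14, 13, 12]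
noncomputable def lv : List R1 := [1, TR1_5_13, TR1_3_10, r1_26, TR1_2_5, r1_34, r1_35, r1_36, TR1_0_2, r1_37, r1_38, r1_39, r1_40, r1_41, r1_42, r1_43]
theorem ciz2 : Ci zB0 :=
  ⟨by decide +kernel, by decide +kernel, by decide +kernel⟩

theorem cenX : ∀ y : X0, (∀ u ∈ LPX.map (·.1), y * u = u * y) → Ez zX y 1 :=
  TX0_tr.cen _ [[(3, [(0, 1), (1, 0)]), (4, [(0, 0), (1, 1)]), (5, [(0, 0), (1, 1)]), (6, [(0, 0), (1, 1)])], [(2, [(0, 2), (1, 3), (2, 0), (3, 1)]), (3, [(2, 2), (3, 3)]), (4, [(2, 3), (3, 2)]), (5, [(2, 2), (3, 3)]), (6, [(2, 2), (3, 3)])], [(1, [(0, 4), (1, 5), (2, 6), (3, 7), (4, 0), (5, 1), (6, 2), (7, 3)]), (2, [(4, 6), (5, 7), (6, 4), (7, 5)]), (3, [(4, 4), (5, 5), (6, 7), (7, 6)]), (4, [(4, 4), (5, 5), (6, 7), (7, 6)]), (5, [(4, 5), (5, 4), (6, 7), (7,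 6)]), (6, [(4, 4), (5, 5), (6, 6), (7, 7)])], [(0, [(0, 8), (1, 9), (8, 0), (9, 1)]), (3, [(8, 8), (9, 9)]), (4, [(8, 8), (9, 9)]), (5, [(8, 8), (9, 9)]), (6, [(8, 9), (9, 8)])], [(0, [(2, 10), (3, 11), (10, 2), (11, 3)]), (2, [(8, 10), (9, 11), (10, 8), (11, 9)]), (3, [(10, 11), (11, 10)]), (4, [(10, 11), (11, 10)]), (5, [(10, 10), (11, 11)]), (6, [(10, 11), (11, 10)])], [(0, [(4, 12), (5, 13), (6, 14), (7, 15), (12, 4), (13, 5), (14, 6), (15, 7)]), (1, [(8, 12), (9, 13), (10, 14), (11, 15), (12, 8), (13, 9), (14, 10), (15, 11)]), (2, [(12, 14), (13, 15), (14, 12), (15, 13)]), (3, [(12, 13), (13, 12), (14, 14), (15, 15)]), (4, [(12, 12), (13, 13), (14, 15), (15, 14)]), (5, [(12, 13), (13, 12), (14, 15), (15, 14)]), (6, [(12, 13), (13, 12), (14, 15), (15, 14)])]] (by decide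 +kernel)

theorem kB : ∀ x : B0, ((∀ a ∈ lA2, x * a = a * x) → In4 zB0 vB0 x) ∧ ((∀ t ∈ LP0, x * t.1 = t.1 * x) → Ez zB0 x 1) ∧
    (Ez zB0 (x * eB0) (eB0 * x) → ((∃ a ∈ [1, eB0, sB0, eB0 * sB0], (ap LRX (iX (x * a))).isSome = true) ∨
      ∃ t ∈ [1, sB0], ¬ Ez zB0 ((x * t) ^ 2 ^ 3) 1 ∧ ((x * t) ^ 2 ^ 3) ^ 3 = 1) ∧
      ((∀ u ∈ gR, Ez zX (iX x * iR u) (iR u * iX x)) → Ez zB0 (x * sB0) (sB0 * x) → In4 zB0 fB0 x)) :=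
  by decide +kernel

theorem kR : ∀ r : R1, In4 zX fX (iR r * iR r) ∧ iR r * fX = fX * iR r ∧ ¬ Ez zX sX (iR r) ∧
    ((∀ u ∈ gR, Ez zX (iR r * iR u) (iR u * iR r)) → In4 zX fX (iR r)) ∧
    (In4 zX fX (cm (iR r) sX) → (ap L64 r).isSome = true) ∧ (Ez zX (eX * iR r * (eX * iR r)) 1 →
      (∃ u ∈ lu, Ez zX (iR u * eX) (eX * iR r * iR u)) ∨ ∃ b ∈ ap LPX (eX * iR r), b * b ≠ 1) ∧
    (Ez zX (sX * iR r * (sX * iR r)) 1 → ∃ u ∈ lv, In4 zX fX (sX⁻¹ * (iR u * (sX * iR r) * (iR u)⁻¹))) :=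
  by decide +kernel

theorem kX : (∀ t ∈ LPX, t.1 = iX t.2.1 ∧ (ap LP0 t.2.1).isSome = true) ∧ (∀ t ∈ LRX, t.1 = iR t.2.1) ∧
    (∀ b ∈ [ιB0, ρB0, sB0, eB0, fB0, nB0], ∀ t ∈ LP0, (ap LP0 (b * t.1 * b⁻¹)).isSome = true) ∧
    (∀ t ∈ LP0, ∃ p ∈ LX0, p.1 = t.1 ∧ (ap LP0 p.2).isSome = true ∧ xs * iX p.1 = iX p.2 * xs) ∧
    (∀ a ∈ [eX, sX], ∀ u ∈ gR, (ap LRX (a * iR u * a⁻¹)).isSome = true) ∧ (ap LRX fX).isSome = true ∧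
    pcOK L64 (L64.map fun _ => 2) = true ∧ (ap LP0 fB0).isSome = true ∧ xs * zX = zX * xs ∧ iR zR = zX :=
  by decide +kernel

theorem kK0 : eB0 * eB0 = 1 ∧ sB0 * sB0 = 1 ∧ fB0 * fB0 = 1 ∧ sB0 * eB0 = eB0 * sB0 ∧ sB0 * fB0 = fB0 * sB0 ∧
    eB0 * fB0 = fB0 * zB0 * eB0 ∧ ¬ Ez zB0 fB0 1 ∧ eB0 ∈ lA2 ∧ zB0 ∈ lA2 ∧ (zB0, zB0) ∈ LX0 :=
  by decide +kernel

/-- the action of the element normalizing the subgroup of order 128 -/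
abbrev OK6 (L L' : Tb B0 B0) (ws : List B0) (d b b' : B0) : Prop :=
  (∀ t ∈ L', run L ws t.1 = some t.2.1 ∨ t.1 = qB0 ∧ t.2.1 = d) ∧ ∀ p ∈ LX0, ∃ u ∈ run L' [b'] p.1, b * u = p.2 * b
/-- the words in `B0` and `c` -/
abbrev OK5 (L L1 L2 : Tb B0 B0) (ws l : List B0) (lw : List (B0 × B0)) (d b1 b1' b2 b2' : B0) : Prop :=
  (∀ a ∈ [1, zB0, fB0, zB0 * fB0], ∃ p ∈ lw, run L [p.1] (sB0 * a) = some (p.2 * p.2)) ∧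
  Trk L ws lA2 l zB0 vB0 qB0 d ∧ OK6 L L1 ws d b1 b1' ∧ OK6 L L2 ws (d * zB0) b2 b2'
noncomputable def b0_65 : B0 := mkB0 [2, 3, 0, 1, 7, 6, 5, 4, 11, 10, 9, 8, 14, 15, 12, 13]
noncomputable def b0_66 : B0 := mkB0 [14, 15, 12, 13, 11, 10, 9, 8, 7, 6, 5, 4, 2, 3, 0, 1]
noncomputable def b0_67 : B0 := mkB0 [6, 7, 4, 5, 2, 3, 0, 1, 14, 15, 12, 13, 10, 11, 8, 9]
noncomputable def b0_68 : B0 := mkB0 [7, 6, 5, 4, 3, 2, 1, 0, 14, 15, 12, 13, 10, 11, 8, 9]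
noncomputable def LY00 : Tb B0 B0 := [(qB0, b0_65, tC vB0),
  (eB0, b0_66, tp 0 195),
  (b0_67, b0_68, tp 0 3),
  (b0_30, b0_30, tp 0 1),
  (b0_44, b0_63, tp 2 4),
  (b0_48, b0_64, tp 4 16),
  (TB0_3_9, TB0_3_9, tp 8 256)]
noncomputable def b0_69 : B0 := mkB0 [1, 0, 2, 3, 5, 4, 6, 7, 9, 8, 11, 10, 13, 12, 15, 14]
noncomputable def b0_70 : B0 := mkB0 [3, 2, 1, 0, 6, 7, 4, 5, 10, 11, 8, 9, 15, 14, 13, 12]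
noncomputable def LY01 : Tb B0 B0 := [(qB0, b0_70, tC vB0),
  (eB0, b0_66, tp 0 195),
  (b0_67, b0_68, tp 0 3),
  (b0_30, b0_30, tp 0 1),
  (b0_44, b0_63, tp 2 4),
  (b0_48, b0_64, tp 4 16),
  (TB0_3_9, TB0_3_9, tp 8 256)]
noncomputable def b0_71 : B0 := mkB0 [1, 0, 3, 2, 4, 5, 6, 7, 9, 8, 10, 11, 12, 13, 15, 14]
noncomputable def b0_72 : B0 := mkB0 [1, 0, 3, 2, 7, 6, 4, 5, 9, 8, 11, 10, 15, 14, 12, 13]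
noncomputable def b0_73 : B0 := mkB0 [1, 0, 7, 6, 5, 4, 2, 3, 9, 8, 15, 14, 13, 12, 10, 11]
noncomputable def b0_74 : B0 := mkB0 [8, 9, 12, 13, 10, 11, 15, 14, 0, 1, 4, 5, 3, 2, 6, 7]
noncomputable def b0_75 : B0 := mkB0 [8, 9, 12, 13, 11, 10, 14, 15, 0, 1, 4, 5, 2, 3, 7, 6]
noncomputable def b0_76 : B0 := mkB0 [15, 14, 13, 12, 10, 11, 8, 9, 6, 7, 4, 5, 3, 2, 1, 0]
noncomputable def b0_77 : B0 := mkB0 [1, 0, 5, 4, 3, 2, 6, 7, 8, 9, 12, 13, 10, 11, 15, 14]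
theorem ok5_0 : OK5 LW00 LY00 LY01 [1, TB0_2_5, TB0_2_5] [b0_76, zB0, fB0, b0_77, b0_52] [(1, b0_72), (1, b0_73), (1, b0_74), (1, b0_75)] b0_65 b0_69 1 b0_71 1 :=
  by decide +kernel

noncomputable def b0_78 : B0 := mkB0 [2, 3, 0, 1, 7, 6, 5, 4, 10, 11, 8, 9, 15, 14, 13, 12]
noncomputable def b0_79 : B0 := mkB0 [14, 15, 13, 12, 10, 11, 9, 8, 7, 6, 4, 5, 3, 2, 0, 1]
noncomputable def b0_80 : B0 := mkB0 [0, 1, 3, 2, 4, 5, 7, 6, 9, 8, 10, 11, 13, 12, 14, 15]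
noncomputable def b0_81 : B0 := mkB0 [0, 1, 2, 3, 5, 4, 7, 6, 9, 8, 11, 10, 12, 13, 14, 15]
noncomputable def LY10 : Tb B0 B0 := [(qB0, b0_78, tC vB0),
  (eB0, b0_79, tp 0 195),
  (b0_67, b0_68, tp 0 3),
  (b0_30, b0_30, tp 0 1),
  (b0_44, b0_80, tp 2 4),
  (b0_48, b0_81, tp 4 16),
  (TB0_3_9, TB0_3_9, tp 8 256)]
noncomputable def b0_82 : B0 := mkB0 [6, 7, 4, 5, 3, 2, 1, 0, 14, 15, 12, 13, 10, 11, 8, 9]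
noncomputable def LY11 : Tb B0 B0 := [(qB0, qB0, tC vB0),
  (eB0, b0_79, tp 0 195),
  (b0_67, b0_68, tp 0 3),
  (b0_30, b0_30, tp 0 1),
  (b0_44, b0_80, tp 2 4),
  (b0_48, b0_81, tp 4 16),
  (TB0_3_9, TB0_3_9, tp 8 256)]
noncomputable def b0_83 : B0 := mkB0 [6, 7, 5, 4, 2, 3, 1, 0, 14, 15, 13, 12, 11, 10, 8, 9]
noncomputable def b0_84 : B0 := mkB0 [8, 9, 12, 13, 10, 11, 15, 14, 1, 0, 5, 4, 2, 3, 7, 6]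
noncomputable def b0_85 : B0 := mkB0 [9, 8, 13, 12, 10, 11, 15, 14, 0, 1, 4, 5, 2, 3, 7, 6]
noncomputable def b0_86 : B0 := mkB0 [1, 0, 4, 5, 2, 3, 6, 7, 8, 9, 13, 12, 11, 10, 15, 14]
noncomputable def b0_87 : B0 := mkB0 [6, 7, 3, 2, 5, 4, 1, 0, 14, 15, 11, 10, 13, 12, 9, 8]
theorem ok5_1 : OK5 LW01 LY10 LY11 [1, TB0_2_5, TB0_2_5] [b0_79, zB0, fB0, b0_86, b0_87] [(1, b0_72), (1, b0_73), (1, b0_84), (1, b0_85)] b0_78 b0_82 1 b0_83 1 :=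
  by decide +kernel

end CF.Yc
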