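import Cfsg.Agent.Yc.D0

/-! The models of orders 768 and 3072: finite checks. -/

set_option autoImplicit false
set_option maxRecDepth 100000
set_option maxHeartbeats 0
set_option Elab.async false
set_option synthInstance.maxSize 4000
set_option synthInstance.maxHeartbeats 400000

namespace CF.Yc

open CF.Perm.SS CF.Comp CF.W2 CF.Yo

def P16 : PC := ⟨(nat_lit 16), (nat_lit 240), (nat_lit 512), (nat_lit 0xffffffffffffffffffffffffffffffffffffffffffffffffffffffffffffffffffffffffffffffffffffffffffffffffffffffffffffffffffffffffffffffffffff), (nat_lit 0x200040008001000200040008001000200040008001000200040008001), (nat_lit 0x10001000100010001000100010001000100010001000100010001000100010000000000000000000000000000000000000000000000000000000000000000000100010001000100010001000100010001000100010001000100010001000100000000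0000000000000000000000000000000000000000000000000000000000010001000100010001000100010001000100010001000100010001000100010000000000000000000000000000000000000000000000000000000000000000000100010001000100010001000100010001000100010001000100010001000100000000000000000000000000000000000000000000000000000000000000000001000100010001000100010001000100010001000100010001000100010001000000000000000000000000000000000000000000000000000000000000000000010001000100010001000100010001000100010001000100010001000100010000000000000000000000000000000000000000000000000000000000000000000100010001000100010001000100010001000100010001000100010001000100000000000000000000000000000000000000000000000000000000000000000001000100010001000100010001000100010001000100010001000100010001000000000000000000000000000000000000000000000000000000000000000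0000100010001000100010001000100010001000100010001000100010001000100000000000000000000000000000000000000000000000000000000000000000001000100010001000100010001000100010001000100010001000100010001000000000000000000000000000000000000000000000000000000000000000000010001000100010001000100010001000100010001000100010001000100010000000000000000000000000000000000000000000000000000000000000000000100010001000100010001000100010001000100010001000100010001000100000000000000000000000000000000000000000000000000000000000000000001000100010001000100010001000100010001000100010001000100010001000000000000000000000000000000000000000000000000000000000000000000010001000100010001000100010001000100010001000100010001000100010000000000000000000000000000000000000000000000000000000000000000000100010001000100010001000100010001000100010001000100010001000100000000000000000000000000000000000000000000000000000000000000000001000100010001000100010001000100010001000100010001000100010001),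 (nat_lit 0xffff0000000000000000000000000000000000000000000000000000000000000000000000000000000000000000000000000000000000000000000000000000ffff0000000000000000000000000000000000000000000000000000000000000000000000000000000000000000000000000000000000000000000000000000ffff0000000000000000000000000000000000000000000000000000000000000000000000000000000000000000000000000000000000000000000000000000ffff0000000000000000000000000000000000000000000000000000000000000000000000000000000000000000000000000000000000000000000000000000ffff0000000000000000000000000000000000000000000000000000000000000000000000000000000000000000000000000000000000000000000000000000ffff0000000000000000000000000000000000000000000000000000000000000000000000000000000000000000000000000000000000000000000000000000ffff000000000000000000000000000000000000000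0000000000000000000000000000000000000000000000000000000000000000000000000000000000000ffff0000000000000000000000000000000000000000000000000000000000000000000000000000000000000000000000000000000000000000000000000000ffff0000000000000000000000000000000000000000000000000000000000000000000000000000000000000000000000000000000000000000000000000000ffff0000000000000000000000000000000000000000000000000000000000000000000000000000000000000000000000000000000000000000000000000000ffff0000000000000000000000000000000000000000000000000000000000000000000000000000000000000000000000000000000000000000000000000000ffff0000000000000000000000000000000000000000000000000000000000000000000000000000000000000000000000000000000000000000000000000000ffff0000000000000000000000000000000000000000000000000000000000000000000000000000000000000000000000000000000000000000000000000000ffff0000000000000000000000000000000000000000000000000000000000000000000000000000000000000000000000000000000000000000000000000000ffff0000000000000000000000000000000000000000000000000000000000000000000000000000000000000000000000000000000000000000000000000000ffff000000000000000000000000000000000000000000000000000000000000)⟩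
instance ok16 : P16.OK := ⟨by
  unfold P16 pc
  congr 1 <;> decide +kernel, by decide +kernel, by decide +kernel⟩
def CN1 : List Perm.SS.Lvl := [
  ⟨0, [[6, 7, 5, 4, 3, 2, 0, 1, 14, 15, 13, 12, 11, 10, 8, 9], [0, 1, 7, 6, 3, 2, 4, 5, 8, 9, 15, 14, 11, 10, 12, 13], [0, 1, 4, 5, 2, 3, 7, 6, 8, 9, 12, 13, 10, 11, 15, 14], [8, 9, 10, 11, 12, 13, 14, 15, 0, 1, 2, 3, 4, 5, 6, 7], [1, 0, 3, 2, 5, 4, 7, 6, 8, 9, 10, 11, 12, 13, 14, 15]],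
   [(0, [], [0, 1, 2, 3, 4, 5, 6, 7, 8, 9, 10, 11, 12, 13, 14, 15]), (6, [0], [6, 7, 5, 4, 3, 2, 0, 1, 14, 15, 13, 12, 11, 10, 8, 9]), (8, [3], [8, 9, 10, 11, 12, 13, 14, 15, 0, 1, 2, 3, 4, 5, 6, 7]), (1, [4], [1, 0, 3, 2, 5, 4, 7, 6, 8, 9, 10, 11, 12, 13, 14, 15]), (3, [0, 1], [6, 7, 1, 0, 4, 5, 3, 2, 14, 15, 9, 8, 12, 13, 11, 10]), (7, [0, 2], [6, 7, 3, 2, 5, 4, 1, 0, 14, 15, 11, 10, 13, 12, 9, 8]), (14, [0, 3], [14, 15, 13, 12, 11, 10, 8, 9, 6, 7, 5, 4, 3, 2, 0, 1]), (9, [4, 3], [8, 9, 10, 11, 12, 13, 14, 15, 1, 0, 3, 2, 5, 4, 7, 6]), (4, [0, 1, 0], [3, 2, 5, 4, 0, 1, 6, 7, 11, 10, 13, 12, 8, 9, 14, 15]), (5, [0, 1, 2], [6, 7, 4, 5, 1, 0, 2, 3, 14, 15, 12, 13, 9, 8, 10, 11]), (11, [0, 1, 3], [14, 15, 9, 8, 12, 13, 11, 10, 6, 7, 1, 0, 4, 5, 3, 2]), (2, [0, 1, 4], [7, 6, 0, 1, 5, 4, 2, 3, 14, 15, 9, 8, 12, 13,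 11, 10]), (15, [0, 2, 3], [14, 15, 11, 10, 13, 12, 9, 8, 6, 7, 3, 2, 5, 4, 1, 0]), (12, [0, 1, 0, 3], [11, 10, 13, 12, 8, 9, 14, 15, 3, 2, 5, 4, 0, 1, 6, 7]), (13, [0, 1, 2, 3], [14, 15, 12, 13, 9, 8, 10, 11, 6, 7, 4, 5, 1, 0, 2, 3]), (10, [0, 1, 4, 3], [14, 15, 9, 8, 12, 13, 11, 10, 7, 6, 0, 1, 5, 4, 2, 3])],
   [[1], [3, 4, 3], [0, 2, 4, 0]]⟩,
  ⟨2, [[0, 1, 7, 6, 3, 2, 4, 5, 8, 9, 15, 14, 11, 10, 12, 13], [0, 1, 2, 3, 4, 5, 6, 7, 9, 8, 11, 10, 13, 12, 15, 14], [0, 1, 5, 4, 3, 2, 7, 6, 9, 8, 12, 13, 10, 11, 14, 15]],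
   [(2, [], [0, 1, 2, 3, 4, 5, 6, 7, 8, 9, 10, 11, 12, 13, 14, 15]), (5, [0], [0, 1, 7, 6, 3, 2, 4, 5, 8, 9, 15, 14, 11, 10, 12, 13]), (7, [0, 0], [0, 1, 5, 4, 6, 7, 3, 2, 8, 9, 13, 12, 14, 15, 11, 10]), (6, [0, 0, 2], [0, 1, 7, 6, 4, 5, 2, 3, 9, 8, 14, 15, 13, 12, 11, 10]), (3, [0, 0, 2, 0], [0, 1, 3, 2, 6, 7, 4, 5, 9, 8, 10, 11, 15, 14, 13, 12]), (4, [0, 0, 2, 0, 0], [0, 1, 5, 4, 2, 3, 6, 7, 9, 8, 12, 13, 11, 10, 15, 14])],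
   [[1], [0, 2]]⟩,
  ⟨4, [[0, 1, 2, 3, 4, 5, 6, 7, 9, 8, 11, 10, 13, 12, 15, 14], [0, 1, 2, 3, 6, 7, 5, 4, 9, 8, 11, 10, 15, 14, 12, 13]],
   [(4, [], [0, 1, 2, 3, 4, 5, 6, 7, 8, 9, 10, 11, 12, 13, 14, 15]), (7, [1], [0, 1, 2, 3, 6, 7, 5, 4, 9, 8, 11, 10, 15, 14, 12, 13]), (5, [1, 1], [0, 1, 2, 3, 5, 4, 7, 6, 8, 9, 10, 11, 13, 12, 15, 14]), (6, [1, 1, 1], [0, 1, 2, 3, 7, 6, 4, 5, 9, 8, 11, 10, 14, 15, 13, 12])],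
   [[0]]⟩,
  ⟨8, [[0, 1, 2, 3, 4, 5, 6, 7, 9, 8, 11, 10, 13, 12, 15, 14]],
   [(8, [], [0, 1, 2, 3, 4, 5, 6, 7, 8, 9, 10, 11, 12, 13, 14, 15]), (9, [0], [0, 1, 2, 3, 4, 5, 6, 7, 9, 8, 11, 10, 13, 12, 15, 14])],
   []⟩]
theorem CN1_ok : chainOK P16.n CN1 = true := by decide +kernel
abbrev N1 : Type := PE P16 (gens CN1)
noncomputable def mkN1 (l : List ℕ) (h : (valb P16.n l && sift P16.n CN1 l) = true := by decide +kernel) : N1 :=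
  PE.mk' l (PE.ex_of CN1_ok rfl h)
noncomputable def TN1_0_0 : N1 := mkN1 [0, 1, 2, 3, 4, 5, 6, 7, 8, 9, 10, 11, 12, 13, 14, 15]
noncomputable def TN1_0_6 : N1 := mkN1 [6, 7, 5, 4, 3, 2, 0, 1, 14, 15, 13, 12, 11, 10, 8, 9]
noncomputable def TN1_0_8 : N1 := mkN1 [8, 9, 10, 11, 12, 13, 14, 15, 0, 1, 2, 3, 4, 5, 6, 7]
noncomputable def TN1_0_1 : N1 := mkN1 [1, 0, 3, 2, 5, 4, 7, 6, 8, 9, 10, 11, 12, 13, 14, 15]
noncomputable def TN1_0_3 : N1 := mkN1 [3, 2, 7, 6, 4, 5, 0, 1, 11, 10, 15, 14, 12, 13, 8, 9]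
noncomputable def TN1_0_7 : N1 := mkN1 [7, 6, 3, 2, 5, 4, 0, 1, 15, 14, 11, 10, 13, 12, 8, 9]
noncomputable def TN1_0_14 : N1 := mkN1 [14, 15, 13, 12, 11, 10, 8, 9, 6, 7, 5, 4, 3, 2, 0, 1]
noncomputable def TN1_0_9 : N1 := mkN1 [9, 8, 11, 10, 13, 12, 15, 14, 0, 1, 2, 3, 4, 5, 6, 7]
noncomputable def TN1_0_4 : N1 := mkN1 [4, 5, 1, 0, 3, 2, 6, 7, 12, 13, 9, 8, 11, 10, 14, 15]
noncomputable def TN1_0_5 : N1 := mkN1 [5, 4, 6, 7, 2, 3, 0, 1, 13, 12, 14, 15, 10, 11, 8, 9]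
noncomputable def TN1_0_11 : N1 := mkN1 [11, 10, 15, 14, 12, 13, 8, 9, 3, 2, 7, 6, 4, 5, 0, 1]
noncomputable def TN1_0_2 : N1 := mkN1 [2, 3, 6, 7, 5, 4, 1, 0, 11, 10, 15, 14, 12, 13, 8, 9]
noncomputable def TN1_0_15 : N1 := mkN1 [15, 14, 11, 10, 13, 12, 8, 9, 7, 6, 3, 2, 5, 4, 0, 1]
noncomputable def TN1_0_12 : N1 := mkN1 [12, 13, 9, 8, 11, 10, 14, 15, 4, 5, 1, 0, 3, 2, 6, 7]
noncomputable def TN1_0_13 : N1 := mkN1 [13, 12, 14, 15, 10, 11, 8, 9, 5, 4, 6, 7, 2, 3, 0, 1]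
noncomputable def TN1_0_10 : N1 := mkN1 [10, 11, 14, 15, 13, 12, 9, 8, 3, 2, 7, 6, 4, 5, 0, 1]
noncomputable def TN1_1_5 : N1 := mkN1 [0, 1, 5, 4, 6, 7, 3, 2, 8, 9, 13, 12, 14, 15, 11, 10]
noncomputable def TN1_1_7 : N1 := mkN1 [0, 1, 7, 6, 3, 2, 4, 5, 8, 9, 15, 14, 11, 10, 12, 13]
noncomputable def TN1_1_6 : N1 := mkN1 [0, 1, 6, 7, 4, 5, 3, 2, 9, 8, 15, 14, 13, 12, 10, 11]
noncomputable def TN1_1_3 : N1 := mkN1 [0, 1, 3, 2, 6, 7, 4, 5, 9, 8, 10, 11, 15, 14, 13, 12]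
noncomputable def TN1_1_4 : N1 := mkN1 [0, 1, 4, 5, 3, 2, 6, 7, 9, 8, 13, 12, 10, 11, 15, 14]
noncomputable def TN1_2_7 : N1 := mkN1 [0, 1, 2, 3, 7, 6, 4, 5, 9, 8, 11, 10, 14, 15, 13, 12]
noncomputable def TN1_2_5 : N1 := mkN1 [0, 1, 2, 3, 5, 4, 7, 6, 8, 9, 10, 11, 13, 12, 15, 14]
noncomputable def TN1_2_6 : N1 := mkN1 [0, 1, 2, 3, 6, 7, 5, 4, 9, 8, 11, 10, 15, 14, 12, 13]
noncomputable def TN1_3_9 : N1 := mkN1 [0, 1, 2, 3, 4, 5, 6, 7, 9, 8, 11, 10, 13, 12, 15, 14]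
noncomputable def TN1 : List (List N1) := [[TN1_0_0, TN1_0_6, TN1_0_8, TN1_0_1, TN1_0_3, TN1_0_7, TN1_0_14, TN1_0_9, TN1_0_4, TN1_0_5, TN1_0_11, TN1_0_2, TN1_0_15, TN1_0_12, TN1_0_13, TN1_0_10],
  [TN1_0_0, TN1_1_5, TN1_1_7, TN1_1_6, TN1_1_3, TN1_1_4],
  [TN1_0_0, TN1_2_7, TN1_2_5, TN1_2_6],
  [TN1_0_0, TN1_3_9]]
theorem TN1_tr : PE.Tr TN1 := PE.tr_of CN1_ok rfl (by decide +kernel)
noncomputable instance enN1 : PE.Enm P16 (gens CN1) := ⟨TN1, TN1_tr⟩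
noncomputable def ιN : N1 := mkN1 [6, 7, 5, 4, 3, 2, 0, 1, 14, 15, 13, 12, 11, 10, 8, 9]
noncomputable def ρN : N1 := mkN1 [0, 1, 7, 6, 3, 2, 4, 5, 8, 9, 15, 14, 11, 10, 12, 13]
noncomputable def sN : N1 := mkN1 [0, 1, 4, 5, 2, 3, 7, 6, 8, 9, 12, 13, 10, 11, 15, 14]
noncomputable def eN : N1 := mkN1 [8, 9, 10, 11, 12, 13, 14, 15, 0, 1, 2, 3, 4, 5, 6, 7]
noncomputable def fN : N1 := mkN1 [1, 0, 3, 2, 5, 4, 7, 6, 8, 9, 10, 11, 12, 13, 14, 15]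
noncomputable def zN : N1 := mkN1 [1, 0, 3, 2, 5, 4, 7, 6, 9, 8, 11, 10, 13, 12, 15, 14]
noncomputable def vN : N1 := mkN1 [0, 1, 3, 2, 5, 4, 6, 7, 8, 9, 11, 10, 13, 12, 14, 15]
noncomputable def qN : N1 := mkN1 [3, 2, 1, 0, 6, 7, 4, 5, 11, 10, 9, 8, 14, 15, 12, 13]
section
variable {K : Type} [Group K] [DecidableEq K]
noncomputable def tC (v a : K) : Bool := decide (a * v ≠ v * a)
noncomputable def tE (z v a : K) : Bool := decide (¬ Ez z (a * v) (v * a))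
end
noncomputable def tS (a : N1) : Bool := tC ιN (a * ιN * a⁻¹) || tC (ρN * ιN * ρN⁻¹) (a * ιN * a⁻¹)
theorem card_N1 : Nat.card N1 = 768 :=
  (PE.card CN1_ok rfl).trans (by decide +kernel)

theorem topN : ∀ {M : Subgroup N1}, (∀ a ∈ [ιN, ρN, sN, eN, fN], a ∈ M) → M = ⊤ :=
  PE.top_of (by decide +kernel)

noncomputable def na_29 : N1 := mkN1 [4, 5, 6, 7, 0, 1, 2, 3, 12, 13, 14, 15, 8, 9, 10, 11]
noncomputable def na_30 : N1 := mkN1 [2, 3, 0, 1, 6, 7, 4, 5, 10, 11, 8, 9, 14, 15, 12, 13]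
noncomputable def na_31 : N1 := mkN1 [1, 0, 2, 3, 4, 5, 7, 6, 8, 9, 11, 10, 13, 12, 14, 15]
noncomputable def na_32 : N1 := mkN1 [0, 1, 3, 2, 4, 5, 7, 6, 8, 9, 11, 10, 12, 13, 15, 14]
noncomputable def LP : Tb N1 Unit := [(eN, (), tp 0 255),
  (na_29, (), tp 0 15),
  (na_30, (), tp 0 3),
  (na_31, (), tp 0 1),
  (na_32, (), tp 2 4),
  (TN1_2_5, (), tp 4 16),
  (TN1_3_9, (), tp 8 256)]
theorem cP : pcOK LP (LP.map fun _ => 2) = true ∧ (∀ a ∈ [sN, ρN], ∀ t ∈ LP, (ap LP (a * t.1 * a⁻¹)).isSome = true) ∧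
    (∀ a ∈ [ιN, eN, fN], (ap LP a).isSome = true) ∧ fN * fN = 1 ∧ fN * eN = eN * zN * fN ∧ fN * zN = zN * fN ∧
    qN * qN = 1 ∧ fN * qN = qN * fN ∧ sN * sN = 1 ∧ sN * ρN * (sN * ρN) = 1 ∧ eN * zN * zN = eN ∧ ρN * ρN * ρN = 1 :=
  by decide +kernel

theorem cenP : ∀ x : N1, (∀ t ∈ LP, x * t.1 = t.1 * x) → Ez zN x 1 :=
  by decide +kernel

/-- the checks on the embedding of `K0` -/
abbrev OK1 (L : Tb N1 K0) (L' : Tb N1 N1) (s : K0) : Prop := pcOK L [2, 1, 3, 2, 2, 2, 2, 2, 2] = true ∧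
  (∀ p ∈ lG.zip (lG' ι0 s), ∃ x ∈ [ιN, ρN, sN, sN * eN, zN, eN], ap L x = some p.1 ∧ ap L (fN * x * fN⁻¹) = some p.2) ∧
  (∀ x : N1, x * eN = eN * zN * x ∨ (ap L x).isSome = true) ∧ (∀ x ∈ [ιN, ρN, sN], (ap L x).isSome = true) ∧
  ap L eN = some e0 ∧ ap L zN = some z0 ∧ ap L qN = some q0 ∧
  ∀ t ∈ L', ∃ a ∈ ap L t.1, ∃ b ∈ ap L t.2.1, ap Lg a = some b
/-- the action of `c f c⁻¹` -/
abbrev OK2 (L L' : Tb N1 N1) (a : N1) : Prop := ∀ t ∈ L', run L [1, 1, fN] t.1 = some t.2.1 ∨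
  t.1 = qN ∧ t.2.1 = qN * a⁻¹ * fN ∨ t.1 = fN ∧ ∃ b ∈ run L [1, 1, fN] a, t.2.1 = a⁻¹ * fN * b⁻¹
/-- an impossible action -/
abbrev Bad (L : Tb N1 N1) (ws : List N1) (E : List (N1 × N1)) : Prop := (∀ p ∈ E, run L ws p.1 = some p.2) ∧
  (zN, zN) ∈ E ∧ ((eN, eN) ∈ E ∨ (eN, eN * zN) ∈ E) ∧ ∀ x : N1, ¬ ∀ p ∈ E, x * p.1 = p.2 * x
noncomputable def mz_33 : MZ := mkMZ [1, 0, 3, 2, 7, 9, 8, 4, 6, 5, 11, 10]
noncomputable def mz_34 : MZ := mkMZ [2, 3, 0, 1, 5, 4, 10, 9, 11, 7, 6, 8]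
noncomputable def na_33 : N1 := mkN1 [1, 0, 2, 3, 4, 5, 7, 6, 9, 8, 10, 11, 12, 13, 15, 14]
noncomputable def mz_35 : MZ := mkMZ [1, 0, 3, 2, 6, 5, 4, 7, 8, 11, 10, 9]
noncomputable def LO0 : Tb N1 K0 := [(sN, s0, tS),
  (ρN, ρ0, tE zN vN),
  (ρN, ρ0, tE zN vN),
  (eN, e0, tp 0 255),
  (na_29, (1, mz_33), tp 0 15),
  (na_30, (1, mz_34), tp 0 3),
  (na_33, (1, mz_35), tp 0 1),
  (na_32, u0, tp 2 4),
  (TN1_2_5, (1, TMZ_2_3), tp 4 16)]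
noncomputable def na_34 : N1 := mkN1 [6, 7, 2, 3, 4, 5, 1, 0, 14, 15, 10, 11, 12, 13, 9, 8]
noncomputable def na_35 : N1 := mkN1 [7, 6, 5, 4, 2, 3, 0, 1, 15, 14, 13, 12, 10, 11, 8, 9]
noncomputable def na_36 : N1 := mkN1 [6, 7, 2, 3, 5, 4, 0, 1, 14, 15, 10, 11, 13, 12, 8, 9]
noncomputable def na_37 : N1 := mkN1 [7, 6, 2, 3, 5, 4, 1, 0, 15, 14, 10, 11, 13, 12, 9, 8]
noncomputable def LC0 : Tb N1 N1 := [(eN, eN, tp 0 195),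
  (na_34, na_35, tp 0 3),
  (na_33, zN, tp 0 1),
  (sN, TN1_2_5, tp 2 12),
  (na_32, na_36, tp 2 4),
  (TN1_2_5, na_37, tp 4 16)]
theorem ok1_0 : OK1 LO0 LC0 s0 :=
  by decide +kernel

noncomputable def na_38 : N1 := mkN1 [2, 3, 0, 1, 7, 6, 5, 4, 11, 10, 9, 8, 14, 15, 12, 13]
noncomputable def na_39 : N1 := mkN1 [8, 9, 11, 10, 13, 12, 14, 15, 0, 1, 3, 2, 5, 4, 6, 7]
noncomputable def LF0 : Tb N1 N1 := [(qN, na_38, tC vN),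
  (fN, fN, tC eN),
  (eN, na_39, tp 0 195),
  (na_34, na_34, tp 0 3),
  (na_33, na_33, tp 0 1),
  (sN, sN, tp 2 12),
  (na_32, na_32, tp 2 4),
  (TN1_2_5, TN1_2_5, tp 4 16)]
noncomputable def a0 : N1 := 1
theorem ok2_0 : ap LO0 a0 = some h0 ∧ OK2 LC0 LF0 a0 :=
  by decide +kernel

noncomputable def na_40 : N1 := mkN1 [10, 11, 9, 8, 14, 15, 13, 12, 3, 2, 0, 1, 7, 6, 4, 5]
noncomputable def na_41 : N1 := mkN1 [0, 1, 3, 2, 5, 4, 6, 7, 9, 8, 10, 11, 12, 13, 15, 14]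
noncomputable def LF0b : Tb N1 N1 := [(qN, na_40, tC vN),
  (fN, na_41, tC eN),
  (eN, na_39, tp 0 195),
  (na_34, na_34, tp 0 3),
  (na_33, na_33, tp 0 1),
  (sN, sN, tp 2 12),
  (na_32, na_32, tp 2 4),
  (TN1_2_5, TN1_2_5, tp 4 16)]
noncomputable def a0b : N1 := na_39
theorem ok2_0b : ap LO0 a0b = some h0b ∧ OK2 LC0 LF0b a0b :=
  by decide +kernel

noncomputable def na_42 : N1 := mkN1 [4, 5, 7, 6, 0, 1, 3, 2, 12, 13, 15, 14, 8, 9, 11, 10]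
theorem bad0 : Bad LF0b [1, ρN, ρN] [(eN, eN), (zN, zN), (na_29, ιN), (na_30, na_42)] :=
  by decide +kernel

noncomputable def LO1 : Tb N1 K0 := [(sN, (ε, sZ), tS),
  (ρN, ρ0, tE zN vN),
  (ρN, ρ0, tE zN vN),
  (eN, e0, tp 0 255),
  (na_29, (1, mz_33), tp 0 15),
  (na_30, (1, mz_34), tp 0 3),
  (na_33, (1, mz_35), tp 0 1),
  (na_32, u0, tp 2 4),
  (TN1_2_5, (1, TMZ_2_3), tp 4 16)]
noncomputable def na_43 : N1 := mkN1 [15, 14, 13, 12, 10, 11, 8, 9, 7, 6, 5, 4, 2, 3, 0, 1]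
noncomputable def na_44 : N1 := mkN1 [8, 9, 10, 11, 13, 12, 15, 14, 0, 1, 2, 3, 5, 4, 7, 6]
noncomputable def na_45 : N1 := mkN1 [14, 15, 10, 11, 13, 12, 8, 9, 6, 7, 2, 3, 5, 4, 0, 1]
noncomputable def na_46 : N1 := mkN1 [15, 14, 10, 11, 13, 12, 9, 8, 7, 6, 2, 3, 5, 4, 1, 0]
noncomputable def LC1 : Tb N1 N1 := [(eN, eN, tp 0 195),
  (na_34, na_43, tp 0 3),
  (na_33, zN, tp 0 1),
  (sN, na_44, tp 2 12),
  (na_32, na_45, tp 2 4),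
  (TN1_2_5, na_46, tp 4 16)]
theorem ok1_1 : OK1 LO1 LC1 (s0 * z0) :=
  by decide +kernel

noncomputable def na_47 : N1 := mkN1 [14, 15, 12, 13, 10, 11, 8, 9, 6, 7, 4, 5, 2, 3, 0, 1]
noncomputable def na_48 : N1 := mkN1 [13, 12, 15, 14, 8, 9, 10, 11, 4, 5, 6, 7, 1, 0, 3, 2]
noncomputable def LF1 : Tb N1 N1 := [(qN, na_48, tC vN),
  (fN, na_41, tC eN),
  (eN, na_39, tp 0 195),
  (na_34, na_34, tp 0 3),
  (na_33, na_33, tp 0 1),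
  (sN, sN, tp 2 12),
  (na_32, TN1_2_5, tp 2 4),
  (TN1_2_5, na_32, tp 4 16)]
noncomputable def a1 : N1 := na_47
theorem ok2_1 : ap LO1 a1 = some h1 ∧ OK2 LC1 LF1 a1 :=
  by decide +kernel

noncomputable def na_49 : N1 := mkN1 [5, 4, 6, 7, 1, 0, 2, 3, 12, 13, 15, 14, 8, 9, 11, 10]
noncomputable def LF1b : Tb N1 N1 := [(qN, na_49, tC vN),
  (fN, fN, tC eN),
  (eN, na_39, tp 0 195),
  (na_34, na_34, tp 0 3),
  (na_33, na_33, tp 0 1),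
  (sN, sN, tp 2 12),
  (na_32, TN1_2_5, tp 2 4),
  (TN1_2_5, na_32, tp 4 16)]
noncomputable def a1b : N1 := ιN
theorem ok2_1b : ap LO1 a1b = some h1b ∧ OK2 LC1 LF1b a1b :=
  by decide +kernel

noncomputable def na_50 : N1 := mkN1 [7, 6, 5, 4, 3, 2, 1, 0, 15, 14, 13, 12, 11, 10, 9, 8]
theorem bad1 : Bad LF1b [1, ρN, ρN⁻¹] [(eN, eN), (zN, zN), (na_29, na_29), (na_30, na_50)] :=
  by decide +kernel

/-- the checks on an overgroup of order 3072 -/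
abbrev OK3 {B : Type} [Group B] [DecidableEq B] [Fr B] (ι : N1 →* B) (n : B) (y p : N1) (L L' : Tb N1 N1) (LN : Tb B N1)
    (LW : Tb B B) : Prop := (∀ t ∈ LP, ∃ b ∈ ap L' t.1, (ap LP b).isSome = true ∧ n * ι t.1 = ι b * n) ∧ n * n = 1 ∧
  (∃ b ∈ ap L' sN, n * ι sN = ι b * n ∧ (ap LP (sN * b)).isSome = true) ∧ (ap LP p).isSome = true ∧
  (y = 1 ∨ y = sN) ∧ ι y * n * (ι sN * ι ρN) * (ι y * n * (ι sN * ι ρN) * (ι y * n * (ι sN * ι ρN))) = ι p ∧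
  ∀ t ∈ LW, t.1 = n ∧ t.2.1 = ι qN * n * (ι qN)⁻¹ ∨ t.1 = ι fN ∧ t.2.1 = n ∨
    ∃ a ∈ ap LN t.1, ∃ b ∈ ap LN t.2.1, ap L a = some b
def CB0 : List Perm.SS.Lvl := [
  ⟨0, [[6, 7, 5, 4, 3, 2, 0, 1, 14, 15, 13, 12, 11, 10, 8, 9], [0, 1, 7, 6, 3, 2, 4, 5, 8, 9, 15, 14, 11, 10, 12, 13], [0, 1, 4, 5, 2, 3, 7, 6, 8, 9, 12, 13, 10, 11, 15, 14], [8, 9, 10, 11, 12, 13, 14, 15, 0, 1, 2, 3, 4, 5, 6, 7], [1, 0, 3, 2, 5, 4, 7, 6, 8, 9, 10, 11, 12, 13, 14, 15], [0, 1, 3, 2, 5, 4, 6, 7, 8, 9, 10, 11, 12, 13, 14, 15]],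
   [(0, [], [0, 1, 2, 3, 4, 5, 6, 7, 8, 9, 10, 11, 12, 13, 14, 15]), (6, [0], [6, 7, 5, 4, 3, 2, 0, 1, 14, 15, 13, 12, 11, 10, 8, 9]), (8, [3], [8, 9, 10, 11, 12, 13, 14, 15, 0, 1, 2, 3, 4, 5, 6, 7]), (1, [4], [1, 0, 3, 2, 5, 4, 7, 6, 8, 9, 10, 11, 12, 13, 14, 15]), (3, [0, 1], [6, 7, 1, 0, 4, 5, 3, 2, 14, 15, 9, 8, 12, 13, 11, 10]), (7, [0, 2], [6, 7, 3, 2, 5, 4, 1, 0, 14, 15, 11, 10, 13, 12, 9, 8]), (14, [0, 3], [14, 15, 13, 12, 11, 10, 8, 9, 6, 7, 5, 4, 3, 2, 0, 1]), (9, [4, 3], [8, 9, 10, 11, 12, 13, 14, 15, 1, 0, 3, 2, 5, 4, 7, 6]), (4, [0, 1, 0], [3, 2, 5, 4, 0, 1, 6, 7, 11, 10, 13, 12, 8, 9, 14, 15]), (5, [0, 1, 2], [6, 7, 4, 5, 1, 0, 2, 3, 14, 15, 12, 13, 9, 8, 10, 11]), (11, [0, 1, 3], [14, 15, 9, 8, 12, 13, 11, 10, 6, 7, 1, 0, 4, 5, 3, 2]), (2, [0, 1, 4], [7, 6, 0, 1, 5, 4, 2, 3, 14, 15, 9, 8, 12, 13,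 11, 10]), (15, [0, 2, 3], [14, 15, 11, 10, 13, 12, 9, 8, 6, 7, 3, 2, 5, 4, 1, 0]), (12, [0, 1, 0, 3], [11, 10, 13, 12, 8, 9, 14, 15, 3, 2, 5, 4, 0, 1, 6, 7]), (13, [0, 1, 2, 3], [14, 15, 12, 13, 9, 8, 10, 11, 6, 7, 4, 5, 1, 0, 2, 3]), (10, [0, 1, 4, 3], [14, 15, 9, 8, 12, 13, 11, 10, 7, 6, 0, 1, 5, 4, 2, 3])],
   [[1], [2], [5], [3, 4, 3], [3, 5, 3]]⟩,
  ⟨2, [[0, 1, 7, 6, 3, 2, 4, 5, 8, 9, 15, 14, 11, 10, 12, 13], [0, 1, 4, 5, 2, 3, 7, 6, 8, 9, 12, 13, 10, 11, 15, 14], [0, 1, 3, 2, 5, 4, 6, 7, 8, 9, 10, 11, 12, 13, 14, 15], [0, 1, 2, 3, 4, 5, 6, 7, 9, 8, 11, 10, 13, 12, 15, 14], [0, 1, 2, 3, 4, 5, 6, 7, 8, 9, 11, 10, 13, 12, 14, 15]],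
   [(2, [], [0, 1, 2, 3, 4, 5, 6, 7, 8, 9, 10, 11, 12, 13, 14, 15]), (5, [0], [0, 1, 7, 6, 3, 2, 4, 5, 8, 9, 15, 14, 11, 10, 12, 13]), (4, [1], [0, 1, 4, 5, 2, 3, 7, 6, 8, 9, 12, 13, 10, 11, 15, 14]), (3, [2], [0, 1, 3, 2, 5, 4, 6, 7, 8, 9, 10, 11, 12, 13, 14, 15]), (7, [0, 0], [0, 1, 5, 4, 6, 7, 3, 2, 8, 9, 13, 12, 14, 15, 11, 10]), (6, [1, 0], [0, 1, 6, 7, 5, 4, 2, 3, 8, 9, 14, 15, 13, 12, 10, 11])],
   [[3], [4], [2, 0, 1]]⟩,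
  ⟨4, [[0, 1, 2, 3, 4, 5, 6, 7, 9, 8, 11, 10, 13, 12, 15, 14], [0, 1, 2, 3, 4, 5, 6, 7, 8, 9, 11, 10, 13, 12, 14, 15], [0, 1, 2, 3, 7, 6, 4, 5, 8, 9, 11, 10, 15, 14, 13, 12]],
   [(4, [], [0, 1, 2, 3, 4, 5, 6, 7, 8, 9, 10, 11, 12, 13, 14, 15]), (6, [2], [0, 1, 2, 3, 7, 6, 4, 5, 8, 9, 11, 10, 15, 14, 13, 12]), (5, [2, 2], [0, 1, 2, 3, 5, 4, 7, 6, 8, 9, 10, 11, 12, 13, 14, 15]), (7, [2, 2, 2], [0, 1, 2, 3, 6, 7, 5, 4, 8, 9, 11, 10, 15, 14, 13, 12])],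
   [[0], [1], [2, 1, 2, 2, 2]]⟩,
  ⟨8, [[0, 1, 2, 3, 4, 5, 6, 7, 9, 8, 11, 10, 13, 12, 15, 14], [0, 1, 2, 3, 4, 5, 6, 7, 8, 9, 11, 10, 13, 12, 14, 15], [0, 1, 2, 3, 4, 5, 6, 7, 8, 9, 11, 10, 12, 13, 15, 14]],
   [(8, [], [0, 1, 2, 3, 4, 5, 6, 7, 8, 9, 10, 11, 12, 13, 14, 15]), (9, [0], [0, 1, 2, 3, 4, 5, 6, 7, 9, 8, 11, 10, 13, 12, 15, 14])],
   [[1], [2]]⟩,
  ⟨10, [[0, 1, 2, 3, 4, 5, 6, 7, 8, 9, 11, 10, 13, 12, 14, 15], [0, 1, 2, 3, 4, 5, 6, 7, 8, 9, 11, 10, 12, 13, 15, 14]],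
   [(10, [], [0, 1, 2, 3, 4, 5, 6, 7, 8, 9, 10, 11, 12, 13, 14, 15]), (11, [0], [0, 1, 2, 3, 4, 5, 6, 7, 8, 9, 11, 10, 13, 12, 14, 15])],
   [[0, 1]]⟩,
  ⟨12, [[0, 1, 2, 3, 4, 5, 6, 7, 8, 9, 10, 11, 13, 12, 15, 14]],
   [(12, [], [0, 1, 2, 3, 4, 5, 6, 7, 8, 9, 10, 11, 12, 13, 14, 15]), (13, [0], [0, 1, 2, 3, 4, 5, 6, 7, 8, 9, 10, 11, 13, 12, 15, 14])],
   []⟩]
theorem CB0_ok : chainOK P16.n CB0 = true := by decide +kernel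
abbrev B0 : Type := PE P16 (gens CB0)
noncomputable def mkB0 (l : List ℕ) (h : (valb P16.n l && sift P16.n CB0 l) = true := by decide +kernel) : B0 :=
  PE.mk' l (PE.ex_of CB0_ok rfl h)
noncomputable def TB0_0_0 : B0 := mkB0 [0, 1, 2, 3, 4, 5, 6, 7, 8, 9, 10, 11, 12, 13, 14, 15]
noncomputable def TB0_0_6 : B0 := mkB0 [6, 7, 5, 4, 3, 2, 0, 1, 14, 15, 13, 12, 11, 10, 8, 9]
noncomputable def TB0_0_8 : B0 := mkB0 [8, 9, 10, 11, 12, 13, 14, 15, 0, 1, 2, 3, 4, 5, 6, 7]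
noncomputable def TB0_0_1 : B0 := mkB0 [1, 0, 3, 2, 5, 4, 7, 6, 8, 9, 10, 11, 12, 13, 14, 15]
noncomputable def TB0_0_3 : B0 := mkB0 [3, 2, 7, 6, 4, 5, 0, 1, 11, 10, 15, 14, 12, 13, 8, 9]
noncomputable def TB0_0_7 : B0 := mkB0 [7, 6, 3, 2, 5, 4, 0, 1, 15, 14, 11, 10, 13, 12, 8, 9]
noncomputable def TB0_0_14 : B0 := mkB0 [14, 15, 13, 12, 11, 10, 8, 9, 6, 7, 5, 4, 3, 2, 0, 1]
noncomputable def TB0_0_9 : B0 := mkB0 [9, 8, 11, 10, 13, 12, 15, 14, 0, 1, 2, 3, 4, 5, 6, 7]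
noncomputable def TB0_0_4 : B0 := mkB0 [4, 5, 1, 0, 3, 2, 6, 7, 12, 13, 9, 8, 11, 10, 14, 15]
noncomputable def TB0_0_5 : B0 := mkB0 [5, 4, 6, 7, 2, 3, 0, 1, 13, 12, 14, 15, 10, 11, 8, 9]
noncomputable def TB0_0_11 : B0 := mkB0 [11, 10, 15, 14, 12, 13, 8, 9, 3, 2, 7, 6, 4, 5, 0, 1]
noncomputable def TB0_0_2 : B0 := mkB0 [2, 3, 6, 7, 5, 4, 1, 0, 11, 10, 15, 14, 12, 13, 8, 9]
noncomputable def TB0_0_15 : B0 := mkB0 [15, 14, 11, 10, 13, 12, 8, 9, 7, 6, 3, 2, 5, 4, 0, 1]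
noncomputable def TB0_0_12 : B0 := mkB0 [12, 13, 9, 8, 11, 10, 14, 15, 4, 5, 1, 0, 3, 2, 6, 7]
noncomputable def TB0_0_13 : B0 := mkB0 [13, 12, 14, 15, 10, 11, 8, 9, 5, 4, 6, 7, 2, 3, 0, 1]
noncomputable def TB0_0_10 : B0 := mkB0 [10, 11, 14, 15, 13, 12, 9, 8, 3, 2, 7, 6, 4, 5, 0, 1]
noncomputable def TB0_1_5 : B0 := mkB0 [0, 1, 5, 4, 6, 7, 3, 2, 8, 9, 13, 12, 14, 15, 11, 10]
noncomputable def TB0_1_4 : B0 := mkB0 [0, 1, 4, 5, 2, 3, 7, 6, 8, 9, 12, 13, 10, 11, 15, 14]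
noncomputable def TB0_1_3 : B0 := mkB0 [0, 1, 3, 2, 5, 4, 6, 7, 8, 9, 10, 11, 12, 13, 14, 15]
noncomputable def TB0_1_7 : B0 := mkB0 [0, 1, 7, 6, 3, 2, 4, 5, 8, 9, 15, 14, 11, 10, 12, 13]
noncomputable def TB0_1_6 : B0 := mkB0 [0, 1, 6, 7, 5, 4, 2, 3, 8, 9, 14, 15, 13, 12, 10, 11]
noncomputable def TB0_2_6 : B0 := mkB0 [0, 1, 2, 3, 6, 7, 5, 4, 8, 9, 11, 10, 15, 14, 13, 12]
noncomputable def TB0_2_5 : B0 := mkB0 [0, 1, 2, 3, 5, 4, 7, 6, 8, 9, 10, 11, 12, 13, 14, 15]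
noncomputable def TB0_2_7 : B0 := mkB0 [0, 1, 2, 3, 7, 6, 4, 5, 8, 9, 11, 10, 15, 14, 13, 12]
noncomputable def TB0_3_9 : B0 := mkB0 [0, 1, 2, 3, 4, 5, 6, 7, 9, 8, 11, 10, 13, 12, 15, 14]
noncomputable def TB0_4_11 : B0 := mkB0 [0, 1, 2, 3, 4, 5, 6, 7, 8, 9, 11, 10, 13, 12, 14, 15]
noncomputable def TB0_5_13 : B0 := mkB0 [0, 1, 2, 3, 4, 5, 6, 7, 8, 9, 10, 11, 13, 12, 15, 14]
noncomputable def TB0 : List (List B0) := [[TB0_0_0, TB0_0_6, TB0_0_8, TB0_0_1, TB0_0_3, TB0_0_7, TB0_0_14, TB0_0_9, TB0_0_4, TB0_0_5, TB0_0_11, TB0_0_2, TB0_0_15, TB0_0_12, TB0_0_13, TB0_0_10],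
  [TB0_0_0, TB0_1_5, TB0_1_4, TB0_1_3, TB0_1_7, TB0_1_6],
  [TB0_0_0, TB0_2_6, TB0_2_5, TB0_2_7],
  [TB0_0_0, TB0_3_9],
  [TB0_0_0, TB0_4_11],
  [TB0_0_0, TB0_5_13]]
theorem TB0_tr : PE.Tr TB0 := PE.tr_of CB0_ok rfl (by decide +kernel)
noncomputable instance enB0 : PE.Enm P16 (gens CB0) := ⟨TB0, TB0_tr⟩
noncomputable def ιB0 : B0 := mkB0 [6, 7, 5, 4, 3, 2, 0, 1, 14, 15, 13, 12, 11, 10, 8, 9]
noncomputable def ρB0 : B0 := mkB0 [0, 1, 7, 6, 3, 2, 4, 5, 8, 9, 15, 14, 11, 10, 12, 13]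
noncomputable def sB0 : B0 := mkB0 [0, 1, 4, 5, 2, 3, 7, 6, 8, 9, 12, 13, 10, 11, 15, 14]
noncomputable def eB0 : B0 := mkB0 [8, 9, 10, 11, 12, 13, 14, 15, 0, 1, 2, 3, 4, 5, 6, 7]
noncomputable def fB0 : B0 := mkB0 [1, 0, 3, 2, 5, 4, 7, 6, 8, 9, 10, 11, 12, 13, 14, 15]
noncomputable def zB0 : B0 := mkB0 [1, 0, 3, 2, 5, 4, 7, 6, 9, 8, 11, 10, 13, 12, 15, 14]
noncomputable def vB0 : B0 := mkB0 [0, 1, 3, 2, 5, 4, 6, 7, 8, 9, 11, 10, 13, 12, 14, 15]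
noncomputable def qB0 : B0 := mkB0 [3, 2, 1, 0, 6, 7, 4, 5, 11, 10, 9, 8, 14, 15, 12, 13]
noncomputable def nB0 : B0 := mkB0 [0, 1, 3, 2, 5, 4, 6, 7, 8, 9, 10, 11, 12, 13, 14, 15]
theorem hiB0 : grp P16.n (gens CN1) ≤ grp P16.n (gens CB0) := PE.grp_le CB0_ok rfl (by decide +kernel)
noncomputable def iB0 : N1 →* B0 := PE.incl hiB0
theorem iB0_inj : Function.Injective iB0 := PE.incl_inj _
theorem card_B0 : Nat.card B0 = 3072 :=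
  (PE.card CB0_ok rfl).trans (by decide +kernel)

theorem topB0 : ∀ {M : Subgroup B0}, (∀ a ∈ [ιB0, ρB0, sB0, eB0, fB0, nB0], a ∈ M) → M = ⊤ :=
  PE.top_of (by decide +kernel)

noncomputable def b0_30 : B0 := mkB0 [1, 0, 2, 3, 4, 5, 7, 6, 8, 9, 11, 10, 13, 12, 14, 15]
noncomputable def b0_31 : B0 := mkB0 [2, 3, 0, 1, 4, 5, 7, 6, 10, 11, 8, 9, 12, 13, 15, 14]
noncomputable def na_51 : N1 := mkN1 [2, 3, 0, 1, 4, 5, 7, 6, 10, 11, 8, 9, 12, 13, 15, 14]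
noncomputable def b0_32 : B0 := mkB0 [3, 2, 0, 1, 4, 5, 6, 7, 10, 11, 9, 8, 13, 12, 15, 14]
noncomputable def na_52 : N1 := mkN1 [3, 2, 0, 1, 4, 5, 6, 7, 10, 11, 9, 8, 13, 12, 15, 14]
noncomputable def b0_33 : B0 := mkB0 [4, 5, 0, 1, 2, 3, 6, 7, 12, 13, 8, 9, 10, 11, 14, 15]
noncomputable def na_53 : N1 := mkN1 [4, 5, 0, 1, 2, 3, 6, 7, 12, 13, 8, 9, 10, 11, 14, 15]
noncomputable def b0_34 : B0 := mkB0 [5, 4, 0, 1, 2, 3, 7, 6, 12, 13, 9, 8, 11, 10, 14, 15]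
noncomputable def na_54 : N1 := mkN1 [5, 4, 0, 1, 2, 3, 7, 6, 12, 13, 9, 8, 11, 10, 14, 15]
noncomputable def b0_35 : B0 := mkB0 [6, 7, 0, 1, 2, 3, 5, 4, 14, 15, 8, 9, 10, 11, 13, 12]
noncomputable def na_55 : N1 := mkN1 [6, 7, 0, 1, 2, 3, 5, 4, 14, 15, 8, 9, 10, 11, 13, 12]
noncomputable def b0_36 : B0 := mkB0 [7, 6, 0, 1, 2, 3, 4, 5, 14, 15, 9, 8, 11, 10, 13, 12]
noncomputable def na_56 : N1 := mkN1 [7, 6, 0, 1, 2, 3, 4, 5, 14, 15, 9, 8, 11, 10, 13, 12]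
noncomputable def b0_37 : B0 := mkB0 [9, 8, 10, 11, 12, 13, 15, 14, 0, 1, 3, 2, 5, 4, 6, 7]
noncomputable def na_57 : N1 := mkN1 [9, 8, 10, 11, 12, 13, 15, 14, 0, 1, 3, 2, 5, 4, 6, 7]
noncomputable def b0_38 : B0 := mkB0 [10, 11, 8, 9, 12, 13, 15, 14, 2, 3, 0, 1, 4, 5, 7, 6]
noncomputable def na_58 : N1 := mkN1 [10, 11, 8, 9, 12, 13, 15, 14, 2, 3, 0, 1, 4, 5, 7, 6]
noncomputable def b0_39 : B0 := mkB0 [11, 10, 8, 9, 12, 13, 14, 15, 2, 3, 1, 0, 5, 4, 7, 6]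
noncomputable def na_59 : N1 := mkN1 [11, 10, 8, 9, 12, 13, 14, 15, 2, 3, 1, 0, 5, 4, 7, 6]
noncomputable def b0_40 : B0 := mkB0 [12, 13, 8, 9, 10, 11, 14, 15, 4, 5, 0, 1, 2, 3, 6, 7]
noncomputable def na_60 : N1 := mkN1 [12, 13, 8, 9, 10, 11, 14, 15, 4, 5, 0, 1, 2, 3, 6, 7]
noncomputable def b0_41 : B0 := mkB0 [13, 12, 8, 9, 10, 11, 15, 14, 4, 5, 1, 0, 3, 2, 6, 7]
noncomputable def na_61 : N1 := mkN1 [13, 12, 8, 9, 10, 11, 15, 14, 4, 5, 1, 0, 3, 2, 6, 7]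
noncomputable def b0_42 : B0 := mkB0 [14, 15, 8, 9, 10, 11, 13, 12, 6, 7, 0, 1, 2, 3, 5, 4]
noncomputable def na_62 : N1 := mkN1 [14, 15, 8, 9, 10, 11, 13, 12, 6, 7, 0, 1, 2, 3, 5, 4]
noncomputable def b0_43 : B0 := mkB0 [15, 14, 8, 9, 10, 11, 12, 13, 6, 7, 1, 0, 3, 2, 5, 4]
noncomputable def na_63 : N1 := mkN1 [15, 14, 8, 9, 10, 11, 12, 13, 6, 7, 1, 0, 3, 2, 5, 4]
noncomputable def b0_44 : B0 := mkB0 [0, 1, 3, 2, 4, 5, 7, 6, 8, 9, 11, 10, 12, 13, 15, 14]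
noncomputable def b0_45 : B0 := mkB0 [0, 1, 5, 4, 2, 3, 6, 7, 8, 9, 13, 12, 10, 11, 14, 15]
noncomputable def na_64 : N1 := mkN1 [0, 1, 5, 4, 2, 3, 6, 7, 8, 9, 13, 12, 10, 11, 14, 15]
noncomputable def b0_46 : B0 := mkB0 [0, 1, 6, 7, 2, 3, 4, 5, 8, 9, 14, 15, 10, 11, 12, 13]
noncomputable def na_65 : N1 := mkN1 [0, 1, 6, 7, 2, 3, 4, 5, 8, 9, 14, 15, 10, 11, 12, 13]
noncomputable def b0_47 : B0 := mkB0 [0, 1, 7, 6, 2, 3, 5, 4, 8, 9, 15, 14, 10, 11, 13, 12]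
noncomputable def na_66 : N1 := mkN1 [0, 1, 7, 6, 2, 3, 5, 4, 8, 9, 15, 14, 10, 11, 13, 12]
noncomputable def b0_48 : B0 := mkB0 [0, 1, 2, 3, 5, 4, 7, 6, 8, 9, 10, 11, 13, 12, 15, 14]
noncomputable def b0_49 : B0 := mkB0 [0, 1, 2, 3, 6, 7, 5, 4, 8, 9, 10, 11, 14, 15, 13, 12]
noncomputable def na_67 : N1 := mkN1 [0, 1, 2, 3, 6, 7, 5, 4, 8, 9, 10, 11, 14, 15, 13, 12]
noncomputable def b0_50 : B0 := mkB0 [0, 1, 2, 3, 7, 6, 4, 5, 8, 9, 10, 11, 15, 14, 12, 13]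
noncomputable def na_68 : N1 := mkN1 [0, 1, 2, 3, 7, 6, 4, 5, 8, 9, 10, 11, 15, 14, 12, 13]
noncomputable def LN0 : Tb B0 N1 := [(b0_30, na_31, tq 0 1),
  (b0_31, na_51, tq 0 2),
  (b0_32, na_52, tq 0 3),
  (b0_33, na_53, tq 0 4),
  (b0_34, na_54, tq 0 5),
  (b0_35, na_55, tq 0 6),
  (b0_36, na_56, tq 0 7),
  (eB0, eN, tq 0 8),
  (b0_37, na_57, tq 0 9),
  (b0_38, na_58, tq 0 10),
  (b0_39, na_59, tq 0 11),
  (b0_40, na_60, tq 0 12),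
  (b0_41, na_61, tq 0 13),
  (b0_42, na_62, tq 0 14),
  (b0_43, na_63, tq 0 15),
  (b0_44, na_32, tq 2 3),
  (sB0, sN, tq 2 4),
  (b0_45, na_64, tq 2 5),
  (b0_46, na_65, tq 2 6),
  (b0_47, na_66, tq 2 7),
  (b0_48, TN1_2_5, tq 4 5),
  (b0_49, na_67, tq 4 6),
  (b0_50, na_68, tq 4 7),
  (TB0_3_9, TN1_3_9, tq 8 9)]
theorem okN0 : (∀ t ∈ LN0, t.1 = iB0 t.2.1) ∧ [ιN, ρN, sN, eN, fN, zN].map iB0 = [ιB0, ρB0, sB0, eB0, fB0, zB0] ∧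
    ∀ x : B0, (ap LN0 (x * eB0 * x⁻¹)).isSome = true ∧ (x * eB0 = eB0 * x → (ap LN0 x).isSome = true) :=
  by decide +kernel

noncomputable def p0 : N1 := 1
noncomputable def b0_51 : B0 := mkB0 [1, 0, 2, 3, 4, 5, 7, 6, 8, 9, 10, 11, 12, 13, 14, 15]
noncomputable def b0_52 : B0 := mkB0 [6, 7, 2, 3, 4, 5, 1, 0, 14, 15, 10, 11, 12, 13, 9, 8]
noncomputable def b0_53 : B0 := mkB0 [7, 6, 5, 4, 2, 3, 0, 1, 15, 14, 13, 12, 10, 11, 8, 9]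
noncomputable def b0_54 : B0 := mkB0 [1, 0, 2, 3, 4, 5, 7, 6, 9, 8, 10, 11, 12, 13, 15, 14]
noncomputable def b0_55 : B0 := mkB0 [6, 7, 2, 3, 5, 4, 0, 1, 14, 15, 10, 11, 13, 12, 8, 9]
noncomputable def b0_56 : B0 := mkB0 [7, 6, 2, 3, 5, 4, 1, 0, 15, 14, 10, 11, 13, 12, 9, 8]
noncomputable def LW00 : Tb B0 B0 := [(nB0, b0_51, tE zB0 eB0),
  (fB0, nB0, tC eB0),
  (eB0, eB0, tp 0 195),
  (b0_52, b0_53, tp 0 3),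
  (b0_54, zB0, tp 0 1),
  (sB0, b0_48, tp 2 12),
  (b0_44, b0_55, tp 2 4),
  (b0_48, b0_56, tp 4 16)]
theorem ok3_00 : OK3 iB0 nB0 sN p0 LC0 LF0 LN0 LW00 :=
  by decide +kernel

noncomputable def b0_57 : B0 := mkB0 [1, 0, 2, 3, 4, 5, 7, 6, 9, 8, 11, 10, 13, 12, 15, 14]
noncomputable def b0_58 : B0 := mkB0 [0, 1, 3, 2, 5, 4, 6, 7, 9, 8, 11, 10, 13, 12, 15, 14]
noncomputable def LW01 : Tb B0 B0 := [(b0_57, b0_58, tE zB0 eB0),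
  (fB0, b0_57, tC eB0),
  (eB0, eB0, tp 0 195),
  (b0_52, b0_53, tp 0 3),
  (b0_54, zB0, tp 0 1),
  (sB0, b0_48, tp 2 12),
  (b0_44, b0_55, tp 2 4),
  (b0_48, b0_56, tp 4 16)]
theorem ok3_01 : OK3 iB0 (nB0 * zB0) sN (p0 * zN) LC0 LF0 LN0 LW01 :=
  by decide +kernel

def CB1 : List Perm.SS.Lvl := [
  ⟨0, [[6, 7, 5, 4, 3, 2, 0, 1, 14, 15, 13, 12, 11, 10, 8, 9], [0, 1, 7, 6, 3, 2, 4, 5, 8, 9, 15, 14, 11, 10, 12, 13], [0, 1, 4, 5, 2, 3, 7, 6, 8, 9, 12, 13, 10, 11, 15, 14], [8, 9, 10, 11, 12, 13, 14, 15, 0, 1, 2, 3, 4, 5, 6, 7], [1, 0, 3, 2, 5, 4, 7, 6, 8, 9, 10, 11, 12, 13, 14, 15], [8, 9, 5, 4, 3, 2, 14, 15, 0, 1, 12, 13, 10, 11, 6, 7]],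
   [(0, [], [0, 1, 2, 3, 4, 5, 6, 7, 8, 9, 10, 11, 12, 13, 14, 15]), (6, [0], [6, 7, 5, 4, 3, 2, 0, 1, 14, 15, 13, 12, 11, 10, 8, 9]), (8, [3], [8, 9, 10, 11, 12, 13, 14, 15, 0, 1, 2, 3, 4, 5, 6, 7]), (1, [4], [1, 0, 3, 2, 5, 4, 7, 6, 8, 9, 10, 11, 12, 13, 14, 15]), (3, [0, 1], [6, 7, 1, 0, 4, 5, 3, 2, 14, 15, 9, 8, 12, 13, 11, 10]), (7, [0, 2], [6, 7, 3, 2, 5, 4, 1, 0, 14, 15, 11, 10, 13, 12, 9, 8]), (14, [0, 3], [14, 15, 13, 12, 11, 10, 8, 9, 6, 7, 5, 4, 3, 2, 0, 1]), (9, [4, 3], [8, 9, 10, 11, 12, 13, 14, 15, 1, 0, 3, 2, 5, 4, 7, 6]), (4, [0, 1, 0], [3, 2, 5, 4, 0, 1, 6, 7, 11, 10, 13, 12, 8, 9, 14, 15]), (5, [0, 1, 2], [6, 7, 4, 5, 1, 0, 2, 3, 14, 15, 12, 13, 9, 8, 10, 11]), (11, [0, 1, 3], [14, 15, 9, 8, 12, 13, 11, 10, 6, 7, 1, 0, 4, 5, 3, 2]), (2, [0, 1, 4], [7, 6, 0, 1, 5, 4, 2, 3, 14, 15, 9, 8, 12, 13,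 11, 10]), (15, [0, 2, 3], [14, 15, 11, 10, 13, 12, 9, 8, 6, 7, 3, 2, 5, 4, 1, 0]), (12, [0, 1, 0, 3], [11, 10, 13, 12, 8, 9, 14, 15, 3, 2, 5, 4, 0, 1, 6, 7]), (13, [0, 1, 2, 3], [14, 15, 12, 13, 9, 8, 10, 11, 6, 7, 4, 5, 1, 0, 2, 3]), (10, [0, 1, 4, 3], [14, 15, 9, 8, 12, 13, 11, 10, 7, 6, 0, 1, 5, 4, 2, 3])],
   [[1], [3, 5], [3, 4, 3]]⟩,
  ⟨2, [[0, 1, 7, 6, 3, 2, 4, 5, 8, 9, 15, 14, 11, 10, 12, 13], [0, 1, 13, 12, 11, 10, 6, 7, 8, 9, 4, 5, 2, 3, 14, 15], [0, 1, 2, 3, 4, 5, 6, 7, 9, 8, 11, 10, 13, 12, 15, 14]],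
   [(2, [], [0, 1, 2, 3, 4, 5, 6, 7, 8, 9, 10, 11, 12, 13, 14, 15]), (5, [0], [0, 1, 7, 6, 3, 2, 4, 5, 8, 9, 15, 14, 11, 10, 12, 13]), (12, [1], [0, 1, 13, 12, 11, 10, 6, 7, 8, 9, 4, 5, 2, 3, 14, 15]), (7, [0, 0], [0, 1, 5, 4, 6, 7, 3, 2, 8, 9, 13, 12, 14, 15, 11, 10]), (11, [0, 1], [0, 1, 10, 11, 14, 15, 4, 5, 8, 9, 3, 2, 7, 6, 12, 13]), (14, [1, 0], [0, 1, 7, 6, 12, 13, 11, 10, 8, 9, 15, 14, 5, 4, 2, 3]), (3, [1, 1], [0, 1, 3, 2, 5, 4, 6, 7, 8, 9, 11, 10, 13, 12, 14, 15]), (13, [1, 2], [0, 1, 13, 12, 11, 10, 6, 7, 9, 8, 5, 4, 3, 2, 15, 14]), (4, [0, 1, 1], [0, 1, 6, 7, 2, 3, 4, 5, 8, 9, 14, 15, 10, 11, 12, 13]), (10, [0, 1, 2], [0, 1, 10, 11, 14, 15, 4, 5, 9, 8, 2, 3, 6, 7, 13, 12]), (15, [1, 0, 2], [0, 1, 7, 6, 12, 13, 11, 10, 9, 8, 14, 15, 4, 5, 3, 2]), (6, [0, 1, 1, 0], [0, 1, 5, 4, 7, 6, 2, 3, 8, 9, 13, 12,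 15, 14, 10, 11])],
   [[2], [0, 0, 1, 0], [0, 1, 0, 2, 1]]⟩,
  ⟨4, [[0, 1, 2, 3, 4, 5, 6, 7, 9, 8, 11, 10, 13, 12, 15, 14], [0, 1, 2, 3, 14, 15, 12, 13, 8, 9, 10, 11, 7, 6, 5, 4], [0, 1, 2, 3, 13, 12, 14, 15, 9, 8, 11, 10, 5, 4, 6, 7]],
   [(4, [], [0, 1, 2, 3, 4, 5, 6, 7, 8, 9, 10, 11, 12, 13, 14, 15]), (15, [1], [0, 1, 2, 3, 14, 15, 12, 13, 8, 9, 10, 11, 7, 6, 5, 4]), (13, [2], [0, 1, 2, 3, 13, 12, 14, 15, 9, 8, 11, 10, 5, 4, 6, 7]), (14, [1, 0], [0, 1, 2, 3, 14, 15, 12, 13, 9, 8, 11, 10, 6, 7, 4, 5]), (5, [1, 1], [0, 1, 2, 3, 5, 4, 7, 6, 8, 9, 10, 11, 13, 12, 15, 14]), (7, [1, 2], [0, 1, 2, 3, 6, 7, 5, 4, 9, 8, 11, 10, 15, 14, 12, 13]), (12, [2, 0], [0, 1, 2, 3, 13, 12, 14, 15, 8, 9, 10, 11, 4, 5, 7, 6]), (6, [1, 0, 2], [0, 1, 2, 3, 7, 6, 4, 5, 8, 9, 10, 11, 15, 14, 12, 13])],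
   [[0]]⟩,
  ⟨8, [[0, 1, 2, 3, 4, 5, 6, 7, 9, 8, 11, 10, 13, 12, 15, 14]],
   [(8, [], [0, 1, 2, 3, 4, 5, 6, 7, 8, 9, 10, 11, 12, 13, 14, 15]), (9, [0], [0, 1, 2, 3, 4, 5, 6, 7, 9, 8, 11, 10, 13, 12, 15, 14])],
   []⟩]
theorem CB1_ok : chainOK P16.n CB1 = true := by decide +kernel
abbrev B1 : Type := PE P16 (gens CB1)
noncomputable def mkB1 (l : List ℕ) (h : (valb P16.n l && sift P16.n CB1 l) = true := by decide +kernel) : B1 :=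
  PE.mk' l (PE.ex_of CB1_ok rfl h)
noncomputable def TB1_0_0 : B1 := mkB1 [0, 1, 2, 3, 4, 5, 6, 7, 8, 9, 10, 11, 12, 13, 14, 15]
noncomputable def TB1_0_6 : B1 := mkB1 [6, 7, 5, 4, 3, 2, 0, 1, 14, 15, 13, 12, 11, 10, 8, 9]
noncomputable def TB1_0_8 : B1 := mkB1 [8, 9, 10, 11, 12, 13, 14, 15, 0, 1, 2, 3, 4, 5, 6, 7]
noncomputable def TB1_0_1 : B1 := mkB1 [1, 0, 3, 2, 5, 4, 7, 6, 8, 9, 10, 11, 12, 13, 14, 15]
noncomputable def TB1_0_3 : B1 := mkB1 [3, 2, 7, 6, 4, 5, 0, 1, 11, 10, 15, 14, 12, 13, 8, 9]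
noncomputable def TB1_0_7 : B1 := mkB1 [7, 6, 3, 2, 5, 4, 0, 1, 15, 14, 11, 10, 13, 12, 8, 9]
noncomputable def TB1_0_14 : B1 := mkB1 [14, 15, 13, 12, 11, 10, 8, 9, 6, 7, 5, 4, 3, 2, 0, 1]
noncomputable def TB1_0_9 : B1 := mkB1 [9, 8, 11, 10, 13, 12, 15, 14, 0, 1, 2, 3, 4, 5, 6, 7]
noncomputable def TB1_0_4 : B1 := mkB1 [4, 5, 1, 0, 3, 2, 6, 7, 12, 13, 9, 8, 11, 10, 14, 15]
noncomputable def TB1_0_5 : B1 := mkB1 [5, 4, 6, 7, 2, 3, 0, 1, 13, 12, 14, 15, 10, 11, 8, 9]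
noncomputable def TB1_0_11 : B1 := mkB1 [11, 10, 15, 14, 12, 13, 8, 9, 3, 2, 7, 6, 4, 5, 0, 1]
noncomputable def TB1_0_2 : B1 := mkB1 [2, 3, 6, 7, 5, 4, 1, 0, 11, 10, 15, 14, 12, 13, 8, 9]
noncomputable def TB1_0_15 : B1 := mkB1 [15, 14, 11, 10, 13, 12, 8, 9, 7, 6, 3, 2, 5, 4, 0, 1]
noncomputable def TB1_0_12 : B1 := mkB1 [12, 13, 9, 8, 11, 10, 14, 15, 4, 5, 1, 0, 3, 2, 6, 7]
noncomputable def TB1_0_13 : B1 := mkB1 [13, 12, 14, 15, 10, 11, 8, 9, 5, 4, 6, 7, 2, 3, 0, 1]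
noncomputable def TB1_0_10 : B1 := mkB1 [10, 11, 14, 15, 13, 12, 9, 8, 3, 2, 7, 6, 4, 5, 0, 1]
noncomputable def TB1_1_5 : B1 := mkB1 [0, 1, 5, 4, 6, 7, 3, 2, 8, 9, 13, 12, 14, 15, 11, 10]
noncomputable def TB1_1_12 : B1 := mkB1 [0, 1, 12, 13, 10, 11, 6, 7, 8, 9, 5, 4, 3, 2, 14, 15]
noncomputable def TB1_1_7 : B1 := mkB1 [0, 1, 7, 6, 3, 2, 4, 5, 8, 9, 15, 14, 11, 10, 12, 13]
noncomputable def TB1_1_11 : B1 := mkB1 [0, 1, 11, 10, 6, 7, 13, 12, 8, 9, 2, 3, 14, 15, 4, 5]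
noncomputable def TB1_1_14 : B1 := mkB1 [0, 1, 14, 15, 13, 12, 3, 2, 8, 9, 7, 6, 4, 5, 11, 10]
noncomputable def TB1_1_3 : B1 := mkB1 [0, 1, 3, 2, 5, 4, 6, 7, 8, 9, 11, 10, 13, 12, 14, 15]
noncomputable def TB1_1_13 : B1 := mkB1 [0, 1, 13, 12, 11, 10, 6, 7, 9, 8, 5, 4, 3, 2, 15, 14]
noncomputable def TB1_1_4 : B1 := mkB1 [0, 1, 4, 5, 6, 7, 2, 3, 8, 9, 12, 13, 14, 15, 10, 11]
noncomputable def TB1_1_10 : B1 := mkB1 [0, 1, 10, 11, 6, 7, 12, 13, 9, 8, 2, 3, 15, 14, 4, 5]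
noncomputable def TB1_1_15 : B1 := mkB1 [0, 1, 15, 14, 12, 13, 3, 2, 9, 8, 7, 6, 4, 5, 10, 11]
noncomputable def TB1_1_6 : B1 := mkB1 [0, 1, 6, 7, 3, 2, 5, 4, 8, 9, 14, 15, 11, 10, 13, 12]
noncomputable def TB1_2_15 : B1 := mkB1 [0, 1, 2, 3, 15, 14, 13, 12, 8, 9, 10, 11, 6, 7, 4, 5]
noncomputable def TB1_2_13 : B1 := mkB1 [0, 1, 2, 3, 13, 12, 14, 15, 9, 8, 11, 10, 5, 4, 6, 7]
noncomputable def TB1_2_14 : B1 := mkB1 [0, 1, 2, 3, 14, 15, 12, 13, 9, 8, 11, 10, 6, 7, 4, 5]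
noncomputable def TB1_2_5 : B1 := mkB1 [0, 1, 2, 3, 5, 4, 7, 6, 8, 9, 10, 11, 13, 12, 15, 14]
noncomputable def TB1_2_7 : B1 := mkB1 [0, 1, 2, 3, 7, 6, 4, 5, 9, 8, 11, 10, 14, 15, 13, 12]
noncomputable def TB1_2_12 : B1 := mkB1 [0, 1, 2, 3, 12, 13, 15, 14, 8, 9, 10, 11, 5, 4, 6, 7]
noncomputable def TB1_2_6 : B1 := mkB1 [0, 1, 2, 3, 6, 7, 5, 4, 8, 9, 10, 11, 14, 15, 13, 12]
noncomputable def TB1_3_9 : B1 := mkB1 [0, 1, 2, 3, 4, 5, 6, 7, 9, 8, 11, 10, 13, 12, 15, 14]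
noncomputable def TB1 : List (List B1) := [[TB1_0_0, TB1_0_6, TB1_0_8, TB1_0_1, TB1_0_3, TB1_0_7, TB1_0_14, TB1_0_9, TB1_0_4, TB1_0_5, TB1_0_11, TB1_0_2, TB1_0_15, TB1_0_12, TB1_0_13, TB1_0_10],
  [TB1_0_0, TB1_1_5, TB1_1_12, TB1_1_7, TB1_1_11, TB1_1_14, TB1_1_3, TB1_1_13, TB1_1_4, TB1_1_10, TB1_1_15, TB1_1_6],
  [TB1_0_0, TB1_2_15, TB1_2_13, TB1_2_14, TB1_2_5, TB1_2_7, TB1_2_12, TB1_2_6],
  [TB1_0_0, TB1_3_9]]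
theorem TB1_tr : PE.Tr TB1 := PE.tr_of CB1_ok rfl (by decide +kernel)
noncomputable instance enB1 : PE.Enm P16 (gens CB1) := ⟨TB1, TB1_tr⟩
noncomputable def ιB1 : B1 := mkB1 [6, 7, 5, 4, 3, 2, 0, 1, 14, 15, 13, 12, 11, 10, 8, 9]
noncomputable def ρB1 : B1 := mkB1 [0, 1, 7, 6, 3, 2, 4, 5, 8, 9, 15, 14, 11, 10, 12, 13]
noncomputable def sB1 : B1 := mkB1 [0, 1, 4, 5, 2, 3, 7, 6, 8, 9, 12, 13, 10, 11, 15, 14]
noncomputable def eB1 : B1 := mkB1 [8, 9, 10, 11, 12, 13, 14, 15, 0, 1, 2, 3, 4, 5, 6, 7]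
noncomputable def fB1 : B1 := mkB1 [1, 0, 3, 2, 5, 4, 7, 6, 8, 9, 10, 11, 12, 13, 14, 15]
noncomputable def zB1 : B1 := mkB1 [1, 0, 3, 2, 5, 4, 7, 6, 9, 8, 11, 10, 13, 12, 15, 14]
noncomputable def vB1 : B1 := mkB1 [0, 1, 3, 2, 5, 4, 6, 7, 8, 9, 11, 10, 13, 12, 14, 15]
noncomputable def qB1 : B1 := mkB1 [3, 2, 1, 0, 6, 7, 4, 5, 11, 10, 9, 8, 14, 15, 12, 13]
noncomputable def nB1 : B1 := mkB1 [8, 9, 5, 4, 3, 2, 14, 15, 0, 1, 12, 13, 10, 11, 6, 7]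
theorem hiB1 : grp P16.n (gens CN1) ≤ grp P16.n (gens CB1) := PE.grp_le CB1_ok rfl (by decide +kernel)
noncomputable def iB1 : N1 →* B1 := PE.incl hiB1
theorem iB1_inj : Function.Injective iB1 := PE.incl_inj _
theorem card_B1 : Nat.card B1 = 3072 :=
  (PE.card CB1_ok rfl).trans (by decide +kernel)

theorem topB1 : ∀ {M : Subgroup B1}, (∀ a ∈ [ιB1, ρB1, sB1, eB1, fB1, nB1], a ∈ M) → M = ⊤ :=
  PE.top_of (by decide +kernel)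

noncomputable def b1_39 : B1 := mkB1 [1, 0, 2, 3, 4, 5, 7, 6, 8, 9, 11, 10, 13, 12, 14, 15]
noncomputable def b1_40 : B1 := mkB1 [2, 3, 0, 1, 4, 5, 7, 6, 10, 11, 8, 9, 12, 13, 15, 14]
noncomputable def b1_41 : B1 := mkB1 [3, 2, 0, 1, 4, 5, 6, 7, 10, 11, 9, 8, 13, 12, 15, 14]
noncomputable def b1_42 : B1 := mkB1 [4, 5, 0, 1, 2, 3, 6, 7, 12, 13, 8, 9, 10, 11, 14, 15]
noncomputable def b1_43 : B1 := mkB1 [5, 4, 0, 1, 2, 3, 7, 6, 12, 13, 9, 8, 11, 10, 14, 15]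
noncomputable def b1_44 : B1 := mkB1 [6, 7, 0, 1, 2, 3, 5, 4, 14, 15, 8, 9, 10, 11, 13, 12]
noncomputable def b1_45 : B1 := mkB1 [7, 6, 0, 1, 2, 3, 4, 5, 14, 15, 9, 8, 11, 10, 13, 12]
noncomputable def b1_46 : B1 := mkB1 [9, 8, 10, 11, 12, 13, 15, 14, 0, 1, 3, 2, 5, 4, 6, 7]
noncomputable def b1_47 : B1 := mkB1 [10, 11, 8, 9, 12, 13, 15, 14, 2, 3, 0, 1, 4, 5, 7, 6]
noncomputable def b1_48 : B1 := mkB1 [11, 10, 8, 9, 12, 13, 14, 15, 2, 3, 1, 0, 5, 4, 7, 6]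
noncomputable def b1_49 : B1 := mkB1 [12, 13, 8, 9, 10, 11, 14, 15, 4, 5, 0, 1, 2, 3, 6, 7]
noncomputable def b1_50 : B1 := mkB1 [13, 12, 8, 9, 10, 11, 15, 14, 4, 5, 1, 0, 3, 2, 6, 7]
noncomputable def b1_51 : B1 := mkB1 [14, 15, 8, 9, 10, 11, 13, 12, 6, 7, 0, 1, 2, 3, 5, 4]
noncomputable def b1_52 : B1 := mkB1 [15, 14, 8, 9, 10, 11, 12, 13, 6, 7, 1, 0, 3, 2, 5, 4]
noncomputable def b1_53 : B1 := mkB1 [0, 1, 3, 2, 4, 5, 7, 6, 8, 9, 11, 10, 12, 13, 15, 14]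
noncomputable def b1_54 : B1 := mkB1 [0, 1, 5, 4, 2, 3, 6, 7, 8, 9, 13, 12, 10, 11, 14, 15]
noncomputable def b1_55 : B1 := mkB1 [0, 1, 6, 7, 2, 3, 4, 5, 8, 9, 14, 15, 10, 11, 12, 13]
noncomputable def b1_56 : B1 := mkB1 [0, 1, 7, 6, 2, 3, 5, 4, 8, 9, 15, 14, 10, 11, 13, 12]
noncomputable def b1_57 : B1 := mkB1 [0, 1, 2, 3, 7, 6, 4, 5, 8, 9, 10, 11, 15, 14, 12, 13]
noncomputable def LN1 : Tb B1 N1 := [(b1_39, na_31, tq 0 1),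
  (b1_40, na_51, tq 0 2),
  (b1_41, na_52, tq 0 3),
  (b1_42, na_53, tq 0 4),
  (b1_43, na_54, tq 0 5),
  (b1_44, na_55, tq 0 6),
  (b1_45, na_56, tq 0 7),
  (eB1, eN, tq 0 8),
  (b1_46, na_57, tq 0 9),
  (b1_47, na_58, tq 0 10),
  (b1_48, na_59, tq 0 11),
  (b1_49, na_60, tq 0 12),
  (b1_50, na_61, tq 0 13),
  (b1_51, na_62, tq 0 14),
  (b1_52, na_63, tq 0 15),
  (b1_53, na_32, tq 2 3),
  (sB1, sN, tq 2 4),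
  (b1_54, na_64, tq 2 5),
  (b1_55, na_65, tq 2 6),
  (b1_56, na_66, tq 2 7),
  (TB1_2_5, TN1_2_5, tq 4 5),
  (TB1_2_6, na_67, tq 4 6),
  (b1_57, na_68, tq 4 7),
  (TB1_3_9, TN1_3_9, tq 8 9)]
theorem okN1 : (∀ t ∈ LN1, t.1 = iB1 t.2.1) ∧ [ιN, ρN, sN, eN, fN, zN].map iB1 = [ιB1, ρB1, sB1, eB1, fB1, zB1] ∧
    ∀ x : B1, (ap LN1 (x * eB1 * x⁻¹)).isSome = true ∧ (x * eB1 = eB1 * x → (ap LN1 x).isSome = true) :=
  by decide +kernel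

noncomputable def na_69 : N1 := mkN1 [8, 9, 11, 10, 12, 13, 15, 14, 0, 1, 3, 2, 4, 5, 7, 6]
noncomputable def p1 : N1 := na_69
noncomputable def b1_58 : B1 := mkB1 [6, 7, 10, 11, 12, 13, 0, 1, 15, 14, 2, 3, 4, 5, 9, 8]
noncomputable def b1_59 : B1 := mkB1 [6, 7, 2, 3, 4, 5, 1, 0, 14, 15, 10, 11, 12, 13, 9, 8]
noncomputable def b1_60 : B1 := mkB1 [15, 14, 13, 12, 10, 11, 8, 9, 7, 6, 5, 4, 2, 3, 0, 1]
noncomputable def b1_61 : B1 := mkB1 [1, 0, 2, 3, 4, 5, 7, 6, 9, 8, 10, 11, 12, 13, 15, 14]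
noncomputable def b1_62 : B1 := mkB1 [8, 9, 10, 11, 13, 12, 15, 14, 0, 1, 2, 3, 5, 4, 7, 6]
noncomputable def b1_63 : B1 := mkB1 [14, 15, 10, 11, 13, 12, 8, 9, 6, 7, 2, 3, 5, 4, 0, 1]
noncomputable def b1_64 : B1 := mkB1 [15, 14, 10, 11, 13, 12, 9, 8, 7, 6, 2, 3, 5, 4, 1, 0]
noncomputable def LW10 : Tb B1 B1 := [(nB1, b1_58, tE zB1 eB1),
  (fB1, nB1, tC eB1),
  (eB1, eB1, tp 0 195),
  (b1_59, b1_60, tp 0 3),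
  (b1_61, zB1, tp 0 1),
  (sB1, b1_62, tp 2 12),
  (b1_53, b1_63, tp 2 4),
  (TB1_2_5, b1_64, tp 4 16)]
theorem ok3_10 : OK3 iB1 nB1 1 p1 LC1 LF1 LN1 LW10 :=
  by decide +kernel

noncomputable def b1_65 : B1 := mkB1 [9, 8, 4, 5, 2, 3, 15, 14, 1, 0, 13, 12, 11, 10, 7, 6]
noncomputable def b1_66 : B1 := mkB1 [7, 6, 11, 10, 13, 12, 1, 0, 14, 15, 3, 2, 5, 4, 8, 9]
noncomputable def LW11 : Tb B1 B1 := [(b1_65, b1_66, tE zB1 eB1),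
  (fB1, b1_65, tC eB1),
  (eB1, eB1, tp 0 195),
  (b1_59, b1_60, tp 0 3),
  (b1_61, zB1, tp 0 1),
  (sB1, b1_62, tp 2 12),
  (b1_53, b1_63, tp 2 4),
  (TB1_2_5, b1_64, tp 4 16)]
theorem ok3_11 : OK3 iB1 (nB1 * zB1) 1 (p1 * zN) LC1 LF1 LN1 LW11 :=
  by decide +kernel

end CF.Yc
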