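import Cfsg.Agent.Yc.Gen

/-! The model of `2 × M₁₂`: finite checks. -/

set_option autoImplicit false
set_option maxRecDepth 100000
set_option maxHeartbeats 0
set_option Elab.async false
set_option synthInstance.maxSize 4000
set_option synthInstance.maxHeartbeats 400000

namespace CF.Yc

open CF.Perm.SS CF.Comp CF.W2 CF.Yo

def CMM : List Perm.SS.Lvl := [
  ⟨4, [[0, 2, 3, 1, 4, 11, 6, 10, 5, 7, 9, 8], [4, 6, 9, 11, 5, 0, 10, 3, 2, 8, 1, 7], [0, 1, 3, 2, 4, 7, 6, 5, 10, 11, 8, 9], [2, 3, 0, 1, 9, 8, 11, 10, 5, 4, 7, 6]],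
   [(4, [], [0, 1, 2, 3, 4, 5, 6, 7, 8, 9, 10, 11]), (0, [1], [4, 6, 9, 11, 5, 0, 10, 3, 2, 8, 1, 7]), (9, [3], [2, 3, 0, 1, 9, 8, 11, 10, 5, 4, 7, 6]), (5, [1, 1], [5, 10, 8, 7, 0, 4, 1, 11, 9, 2, 6, 3]), (2, [1, 3], [9, 11, 4, 6, 8, 2, 7, 1, 0, 5, 3, 10]), (10, [3, 0], [2, 0, 1, 3, 9, 6, 11, 7, 8, 10, 4, 5]), (11, [3, 2], [2, 3, 1, 0, 9, 10, 11, 8, 7, 6, 5, 4]), (8, [1, 1, 0], [5, 8, 7, 10, 0, 3, 1, 6, 4, 11, 2, 9]), (7, [1, 1, 2], [5, 10, 7, 8, 0, 11, 1, 4, 6, 3, 9, 2]), (1, [1, 3, 0], [9, 4, 6, 11, 8, 10, 7, 3, 2, 1, 5, 0]), (3, [1, 3, 2], [9, 11, 6, 4, 8, 1, 7, 2, 3, 10, 0, 5]), (6, [3, 0, 1], [9, 11, 10, 5, 6, 2, 4, 3, 1, 8, 0, 7])],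
   [[0], [2], [1, 0, 1, 1]]⟩,
  ⟨6, [[0, 2, 3, 1, 4, 11, 6, 10, 5, 7, 9, 8], [0, 1, 3, 2, 4, 7, 6, 5, 10, 11, 8, 9], [7, 8, 0, 1, 4, 5, 9, 2, 3, 11, 10, 6]],
   [(6, [], [0, 1, 2, 3, 4, 5, 6, 7, 8, 9, 10, 11]), (11, [2], [7, 8, 0, 1, 4, 5, 9, 2, 3, 11, 10, 6]), (5, [2, 0], [7, 0, 1, 8, 4, 6, 9, 10, 5, 2, 11, 3]), (9, [2, 1], [7, 8, 1, 0, 4, 2, 9, 5, 10, 6, 3, 11]), (8, [2, 0, 0], [7, 1, 8, 0, 4, 3, 9, 11, 6, 10, 2, 5]), (7, [2, 0, 1], [7, 0, 8, 1, 4, 10, 9, 6, 11, 3, 5, 2]), (10, [2, 1, 0], [7, 1, 0, 8, 4, 11, 9, 3, 2, 5, 6, 10]), (1, [2, 0, 0, 2], [11, 6, 7, 1, 4, 3, 10, 8, 0, 5, 2, 9]), (0, [2, 0, 1, 2], [6, 11, 7, 0, 4, 10, 3, 8, 1, 2, 5, 9]), (3, [2, 0, 0, 2, 0], [11, 7, 1, 6, 4, 9, 10, 2, 3, 8, 5, 0]), (2, [2, 0, 1, 2, 2], [8, 1, 6, 11, 4, 10, 2, 7, 0, 9, 5, 3])],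
   [[0], [2, 1, 2]]⟩,
  ⟨5, [[0, 2, 3, 1, 4, 11, 6, 10, 5, 7, 9, 8], [5, 10, 7, 8, 4, 2, 6, 1, 0, 11, 3, 9]],
   [(5, [], [0, 1, 2, 3, 4, 5, 6, 7, 8, 9, 10, 11]), (8, [0], [0, 2, 3, 1, 4, 11, 6, 10, 5, 7, 9, 8]), (0, [1], [5, 10, 7, 8, 4, 2, 6, 1, 0, 11, 3, 9]), (11, [0, 0], [0, 3, 1, 2, 4, 8, 6, 9, 11, 10, 7, 5]), (3, [0, 1], [11, 9, 10, 5, 4, 3, 6, 2, 0, 8, 1, 7]), (9, [0, 0, 1], [8, 7, 9, 11, 4, 1, 6, 3, 0, 5, 2, 10]), (2, [0, 1, 0], [11, 10, 5, 9, 4, 7, 6, 1, 3, 2, 8, 0]), (10, [0, 1, 1], [3, 1, 2, 0, 4, 10, 6, 9, 11, 7, 5, 8]), (1, [0, 1, 0, 0], [11, 5, 9, 10, 4, 0, 6, 8, 7, 1, 2, 3]), (7, [0, 1, 1, 0], [3, 2, 0, 1, 4, 8, 6, 5, 10, 9, 7, 11])],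
   [[0, 1, 0, 1], [0, 1, 1, 0, 0, 1, 0]]⟩,
  ⟨10, [[7, 8, 1, 3, 4, 5, 6, 10, 11, 0, 9, 2], [11, 7, 8, 9, 4, 5, 6, 2, 1, 0, 10, 3]],
   [(10, [], [0, 1, 2, 3, 4, 5, 6, 7, 8, 9, 10, 11]), (7, [0], [7, 8, 1, 3, 4, 5, 6, 10, 11, 0, 9, 2]), (0, [0, 0], [10, 11, 8, 3, 4, 5, 6, 9, 2, 7, 0, 1]), (1, [0, 1], [2, 10, 11, 0, 4, 5, 6, 1, 8, 7, 9, 3]), (9, [0, 0, 0], [9, 2, 11, 3, 4, 5, 6, 0, 1, 10, 7, 8]), (2, [0, 1, 0], [1, 8, 10, 0, 4, 5, 6, 9, 3, 2, 7, 11]), (8, [0, 1, 1], [3, 1, 8, 7, 4, 5, 6, 11, 10, 2, 9, 0]), (3, [0, 0, 0, 1], [8, 0, 1, 10, 4, 5, 6, 11, 2, 9, 7, 3]), (11, [0, 1, 0, 0], [9, 3, 8, 0, 4, 5, 6, 7, 11, 1, 2, 10])],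
   [[1], [0, 0, 1, 0]]⟩,
  ⟨7, [[11, 7, 8, 9, 4, 5, 6, 2, 1, 0, 10, 3], [8, 11, 9, 7, 4, 5, 6, 0, 3, 1, 10, 2]],
   [(7, [], [0, 1, 2, 3, 4, 5, 6, 7, 8, 9, 10, 11]), (1, [0], [11, 7, 8, 9, 4, 5, 6, 2, 1, 0, 10, 3]), (3, [1], [8, 11, 9, 7, 4, 5, 6, 0, 3, 1, 10, 2]), (8, [0, 0], [3, 2, 1, 0, 4, 5, 6, 8, 7, 11, 10, 9]), (9, [0, 1], [1, 3, 0, 2, 4, 5, 6, 11, 9, 7, 10, 8]), (11, [1, 0], [2, 0, 3, 1, 4, 5, 6, 9, 11, 8, 10, 7]), (2, [0, 0, 0], [9, 8, 7, 11, 4, 5, 6, 1, 2, 3, 10, 0]), (0, [0, 0, 1], [7, 9, 11, 8, 4, 5, 6, 3, 0, 2, 10, 1])],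
   []⟩]
theorem CMM_ok : chainOK P12.n CMM = true := by decide +kernel
abbrev MM : Type := PE P12 (gens CMM)
noncomputable def mkMM (l : List ℕ) (h : (valb P12.n l && sift P12.n CMM l) = true := by decide +kernel) : MM :=
  PE.mk' l (PE.ex_of CMM_ok rfl h)
noncomputable def TMM_0_4 : MM := mkMM [0, 1, 2, 3, 4, 5, 6, 7, 8, 9, 10, 11]
noncomputable def TMM_0_0 : MM := mkMM [5, 10, 8, 7, 0, 4, 1, 11, 9, 2, 6, 3]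
noncomputable def TMM_0_9 : MM := mkMM [2, 3, 0, 1, 9, 8, 11, 10, 5, 4, 7, 6]
noncomputable def TMM_0_5 : MM := mkMM [4, 6, 9, 11, 5, 0, 10, 3, 2, 8, 1, 7]
noncomputable def TMM_0_2 : MM := mkMM [8, 7, 5, 10, 2, 9, 3, 6, 4, 0, 11, 1]
noncomputable def TMM_0_10 : MM := mkMM [1, 2, 0, 3, 10, 11, 5, 7, 8, 4, 9, 6]
noncomputable def TMM_0_11 : MM := mkMM [3, 2, 0, 1, 11, 10, 9, 8, 7, 4, 5, 6]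
noncomputable def TMM_0_8 : MM := mkMM [4, 6, 10, 5, 8, 0, 7, 2, 1, 11, 3, 9]
noncomputable def TMM_0_7 : MM := mkMM [4, 6, 11, 9, 7, 0, 8, 2, 3, 10, 1, 5]
noncomputable def TMM_0_1 : MM := mkMM [11, 9, 8, 7, 1, 10, 2, 6, 4, 0, 5, 3]
noncomputable def TMM_0_3 : MM := mkMM [10, 5, 7, 8, 3, 11, 2, 6, 4, 0, 9, 1]
noncomputable def TMM_0_6 : MM := mkMM [10, 8, 5, 7, 6, 3, 4, 11, 9, 0, 2, 1]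
noncomputable def TMM_1_11 : MM := mkMM [2, 3, 7, 8, 4, 5, 11, 0, 1, 6, 10, 9]
noncomputable def TMM_1_5 : MM := mkMM [1, 2, 9, 11, 4, 8, 5, 0, 3, 6, 7, 10]
noncomputable def TMM_1_9 : MM := mkMM [3, 2, 5, 10, 4, 7, 9, 0, 1, 6, 8, 11]
noncomputable def TMM_1_8 : MM := mkMM [3, 1, 10, 5, 4, 11, 8, 0, 2, 6, 9, 7]
noncomputable def TMM_1_7 : MM := mkMM [1, 3, 11, 9, 4, 10, 7, 0, 2, 6, 5, 8]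
noncomputable def TMM_1_10 : MM := mkMM [2, 1, 8, 7, 4, 9, 10, 0, 3, 6, 11, 5]
noncomputable def TMM_1_1 : MM := mkMM [8, 3, 10, 5, 4, 9, 1, 2, 7, 11, 6, 0]
noncomputable def TMM_1_0 : MM := mkMM [3, 8, 9, 6, 4, 10, 0, 2, 7, 11, 5, 1]
noncomputable def TMM_1_3 : MM := mkMM [11, 2, 7, 8, 4, 10, 3, 1, 9, 5, 6, 0]
noncomputable def TMM_1_2 : MM := mkMM [8, 1, 6, 11, 4, 10, 2, 7, 0, 9, 5, 3]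
noncomputable def TMM_2_8 : MM := mkMM [0, 3, 1, 2, 4, 8, 6, 9, 11, 10, 7, 5]
noncomputable def TMM_2_0 : MM := mkMM [8, 7, 5, 10, 4, 0, 6, 2, 3, 11, 1, 9]
noncomputable def TMM_2_11 : MM := mkMM [0, 2, 3, 1, 4, 11, 6, 10, 5, 7, 9, 8]
noncomputable def TMM_2_3 : MM := mkMM [8, 10, 7, 5, 4, 3, 6, 11, 9, 1, 2, 0]
noncomputable def TMM_2_9 : MM := mkMM [8, 5, 10, 7, 4, 9, 6, 1, 0, 2, 11, 3]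
noncomputable def TMM_2_2 : MM := mkMM [11, 7, 9, 8, 4, 2, 6, 5, 10, 3, 1, 0]
noncomputable def TMM_2_10 : MM := mkMM [3, 1, 2, 0, 4, 10, 6, 9, 11, 7, 5, 8]
noncomputable def TMM_2_1 : MM := mkMM [5, 9, 10, 11, 4, 1, 6, 8, 7, 2, 3, 0]
noncomputable def TMM_2_7 : MM := mkMM [2, 3, 1, 0, 4, 7, 6, 10, 5, 9, 8, 11]
noncomputable def TMM_3_7 : MM := mkMM [9, 2, 11, 3, 4, 5, 6, 0, 1, 10, 7, 8]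
noncomputable def TMM_3_0 : MM := mkMM [10, 11, 8, 3, 4, 5, 6, 9, 2, 7, 0, 1]
noncomputable def TMM_3_1 : MM := mkMM [3, 7, 0, 11, 4, 5, 6, 9, 8, 10, 1, 2]
noncomputable def TMM_3_9 : MM := mkMM [7, 8, 1, 3, 4, 5, 6, 10, 11, 0, 9, 2]
noncomputable def TMM_3_2 : MM := mkMM [3, 0, 9, 8, 4, 5, 6, 10, 1, 7, 2, 11]
noncomputable def TMM_3_8 : MM := mkMM [11, 1, 9, 0, 4, 5, 6, 3, 2, 10, 8, 7]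
noncomputable def TMM_3_3 : MM := mkMM [1, 2, 8, 11, 4, 5, 6, 10, 0, 9, 3, 7]
noncomputable def TMM_3_11 : MM := mkMM [3, 9, 10, 1, 4, 5, 6, 7, 2, 0, 11, 8]
noncomputable def TMM_4_1 : MM := mkMM [9, 8, 7, 11, 4, 5, 6, 1, 2, 3, 10, 0]
noncomputable def TMM_4_3 : MM := mkMM [7, 9, 11, 8, 4, 5, 6, 3, 0, 2, 10, 1]
noncomputable def TMM_4_8 : MM := mkMM [3, 2, 1, 0, 4, 5, 6, 8, 7, 11, 10, 9]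
noncomputable def TMM_4_9 : MM := mkMM [2, 0, 3, 1, 4, 5, 6, 9, 11, 8, 10, 7]
noncomputable def TMM_4_11 : MM := mkMM [1, 3, 0, 2, 4, 5, 6, 11, 9, 7, 10, 8]
noncomputable def TMM_4_2 : MM := mkMM [11, 7, 8, 9, 4, 5, 6, 2, 1, 0, 10, 3]
noncomputable def TMM_4_0 : MM := mkMM [8, 11, 9, 7, 4, 5, 6, 0, 3, 1, 10, 2]
noncomputable def TMM : List (List MM) := [[TMM_0_4, TMM_0_0, TMM_0_9, TMM_0_5, TMM_0_2, TMM_0_10, TMM_0_11, TMM_0_8, TMM_0_7, TMM_0_1, TMM_0_3, TMM_0_6],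
  [TMM_0_4, TMM_1_11, TMM_1_5, TMM_1_9, TMM_1_8, TMM_1_7, TMM_1_10, TMM_1_1, TMM_1_0, TMM_1_3, TMM_1_2],
  [TMM_0_4, TMM_2_8, TMM_2_0, TMM_2_11, TMM_2_3, TMM_2_9, TMM_2_2, TMM_2_10, TMM_2_1, TMM_2_7],
  [TMM_0_4, TMM_3_7, TMM_3_0, TMM_3_1, TMM_3_9, TMM_3_2, TMM_3_8, TMM_3_3, TMM_3_11],
  [TMM_0_4, TMM_4_1, TMM_4_3, TMM_4_8, TMM_4_9, TMM_4_11, TMM_4_2, TMM_4_0]]
theorem TMM_tr : PE.Tr TMM := PE.tr_of CMM_ok rfl (by decide +kernel)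
def CMZ : List Perm.SS.Lvl := [
  ⟨4, [[2, 3, 0, 1, 9, 8, 11, 10, 5, 4, 7, 6], [0, 2, 3, 1, 4, 11, 6, 10, 5, 7, 9, 8], [0, 1, 3, 2, 4, 7, 6, 5, 10, 11, 8, 9]],
   [(4, [], [0, 1, 2, 3, 4, 5, 6, 7, 8, 9, 10, 11]), (9, [0], [2, 3, 0, 1, 9, 8, 11, 10, 5, 4, 7, 6]), (10, [0, 1], [2, 0, 1, 3, 9, 6, 11, 7, 8, 10, 4, 5]), (11, [0, 2], [2, 3, 1, 0, 9, 10, 11, 8, 7, 6, 5, 4]), (7, [0, 1, 0], [1, 3, 2, 0, 10, 8, 5, 4, 6, 9, 7, 11]), (8, [0, 1, 2], [2, 0, 3, 1, 9, 7, 11, 6, 4, 5, 8, 10]), (6, [0, 2, 0], [1, 0, 2, 3, 6, 7, 4, 5, 10, 9, 8, 11]), (5, [0, 2, 1], [2, 1, 0, 3, 9, 4, 11, 5, 10, 8, 6, 7])],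
   [[1], [2], [0, 2, 1, 0, 1, 2, 0]]⟩,
  ⟨5, [[0, 2, 3, 1, 4, 11, 6, 10, 5, 7, 9, 8], [0, 1, 3, 2, 4, 7, 6, 5, 10, 11, 8, 9], [3, 1, 0, 2, 4, 9, 6, 10, 5, 8, 11, 7]],
   [(5, [], [0, 1, 2, 3, 4, 5, 6, 7, 8, 9, 10, 11]), (8, [0], [0, 2, 3, 1, 4, 11, 6, 10, 5, 7, 9, 8]), (7, [1], [0, 1, 3, 2, 4, 7, 6, 5, 10, 11, 8, 9]), (11, [0, 0], [0, 3, 1, 2, 4, 8, 6, 9, 11, 10, 7, 5]), (10, [0, 1], [0, 2, 1, 3, 4, 10, 6, 11, 9, 8, 5, 7]), (9, [0, 2], [1, 2, 0, 3, 4, 7, 6, 9, 11, 5, 8, 10])],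
   [[1, 2, 0]]⟩,
  ⟨0, [[2, 0, 3, 1, 4, 5, 6, 9, 11, 8, 10, 7]],
   [(0, [], [0, 1, 2, 3, 4, 5, 6, 7, 8, 9, 10, 11]), (1, [0], [2, 0, 3, 1, 4, 5, 6, 9, 11, 8, 10, 7]), (3, [0, 0], [3, 2, 1, 0, 4, 5, 6, 8, 7, 11, 10, 9]), (2, [0, 0, 0], [1, 3, 0, 2, 4, 5, 6, 11, 9, 7, 10, 8])],
   []⟩]
theorem CMZ_ok : chainOK P12.n CMZ = true := by decide +kernel
abbrev MZ : Type := PE P12 (gens CMZ)
noncomputable def mkMZ (l : List ℕ) (h : (valb P12.n l && sift P12.n CMZ l) = true := by decide +kernel) : MZ :=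
  PE.mk' l (PE.ex_of CMZ_ok rfl h)
noncomputable def TMZ_0_4 : MZ := mkMZ [0, 1, 2, 3, 4, 5, 6, 7, 8, 9, 10, 11]
noncomputable def TMZ_0_9 : MZ := mkMZ [2, 3, 0, 1, 9, 8, 11, 10, 5, 4, 7, 6]
noncomputable def TMZ_0_10 : MZ := mkMZ [1, 2, 0, 3, 10, 11, 5, 7, 8, 4, 9, 6]
noncomputable def TMZ_0_11 : MZ := mkMZ [3, 2, 0, 1, 11, 10, 9, 8, 7, 4, 5, 6]
noncomputable def TMZ_0_7 : MZ := mkMZ [3, 0, 2, 1, 7, 6, 8, 10, 5, 9, 4, 11]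
noncomputable def TMZ_0_8 : MZ := mkMZ [1, 3, 0, 2, 8, 9, 7, 5, 10, 4, 11, 6]
noncomputable def TMZ_0_6 : MZ := mkMZ [1, 0, 2, 3, 6, 7, 4, 5, 10, 9, 8, 11]
noncomputable def TMZ_0_5 : MZ := mkMZ [2, 1, 0, 3, 5, 7, 10, 11, 9, 4, 8, 6]
noncomputable def TMZ_1_8 : MZ := mkMZ [0, 3, 1, 2, 4, 8, 6, 9, 11, 10, 7, 5]
noncomputable def TMZ_1_7 : MZ := mkMZ [0, 1, 3, 2, 4, 7, 6, 5, 10, 11, 8, 9]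
noncomputable def TMZ_1_11 : MZ := mkMZ [0, 2, 3, 1, 4, 11, 6, 10, 5, 7, 9, 8]
noncomputable def TMZ_1_10 : MZ := mkMZ [0, 2, 1, 3, 4, 10, 6, 11, 9, 8, 5, 7]
noncomputable def TMZ_1_9 : MZ := mkMZ [2, 0, 1, 3, 4, 9, 6, 5, 10, 7, 11, 8]
noncomputable def TMZ_2_1 : MZ := mkMZ [1, 3, 0, 2, 4, 5, 6, 11, 9, 7, 10, 8]
noncomputable def TMZ_2_3 : MZ := mkMZ [3, 2, 1, 0, 4, 5, 6, 8, 7, 11, 10, 9]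
noncomputable def TMZ_2_2 : MZ := mkMZ [2, 0, 3, 1, 4, 5, 6, 9, 11, 8, 10, 7]
noncomputable def TMZ : List (List MZ) := [[TMZ_0_4, TMZ_0_9, TMZ_0_10, TMZ_0_11, TMZ_0_7, TMZ_0_8, TMZ_0_6, TMZ_0_5],
  [TMZ_0_4, TMZ_1_8, TMZ_1_7, TMZ_1_11, TMZ_1_10, TMZ_1_9],
  [TMZ_0_4, TMZ_2_1, TMZ_2_3, TMZ_2_2]]
theorem TMZ_tr : PE.Tr TMZ := PE.tr_of CMZ_ok rfl (by decide +kernel)
noncomputable instance enMZ : PE.Enm P12 (gens CMZ) := ⟨TMZ, TMZ_tr⟩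
theorem hiZ : grp P12.n (gens CMZ) ≤ grp P12.n (gens CMM) := PE.grp_le CMM_ok rfl (by decide +kernel)
noncomputable def iZ : MZ →* MM := PE.incl hiZ
theorem iZ_inj : Function.Injective iZ := PE.incl_inj _
noncomputable def zZ : MZ := mkMZ [0, 1, 2, 3, 6, 10, 4, 8, 7, 11, 5, 9]
noncomputable def ρZ : MZ := mkMZ [0, 2, 3, 1, 4, 11, 6, 10, 5, 7, 9, 8]
noncomputable def sZ : MZ := mkMZ [0, 1, 3, 2, 4, 7, 6, 5, 10, 11, 8, 9]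
noncomputable def vZ : MZ := mkMZ [1, 0, 3, 2, 4, 10, 6, 8, 7, 9, 5, 11]
noncomputable def ιZ : MZ := mkMZ [2, 3, 0, 1, 9, 8, 11, 10, 5, 4, 7, 6]
noncomputable def qZ : MZ := mkMZ [1, 0, 3, 2, 10, 6, 5, 9, 11, 7, 4, 8]
noncomputable def uZ : MZ := mkMZ [2, 3, 0, 1, 4, 10, 6, 7, 8, 11, 5, 9]
noncomputable def cM : MM := mkMM [4, 6, 9, 11, 5, 0, 10, 3, 2, 8, 1, 7]
/-- the centralizer of two commuting involutions -/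
abbrev K0 : Type := Z2 × MZ
noncomputable def e0 : K0 := (ε, 1)
noncomputable def z0 : K0 := (1, zZ)
noncomputable def ρ0 : K0 := (1, ρZ)
noncomputable def s0 : K0 := (1, sZ)
noncomputable def v0 : K0 := (1, vZ)
noncomputable def ι0 : K0 := (1, ιZ)
noncomputable def q0 : K0 := (1, qZ)
noncomputable def u0 : K0 := (1, uZ)
noncomputable def mz_20 : MZ := mkMZ [0, 1, 2, 3, 9, 7, 11, 10, 5, 6, 8, 4]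
noncomputable def y0 : K0 := (1, mz_20)
noncomputable def mz_21 : MZ := mkMZ [3, 2, 1, 0, 11, 8, 9, 10, 5, 6, 7, 4]
noncomputable def ιb : K0 := (1, mz_21)
noncomputable def mm_46 : MM := mkMM [0, 1, 2, 3, 5, 6, 10, 9, 11, 8, 4, 7]
noncomputable def mz_22 : MZ := mkMZ [0, 1, 2, 3, 5, 6, 10, 9, 11, 8, 4, 7]
noncomputable def mm_47 : MM := mkMM [0, 1, 2, 3, 6, 10, 4, 8, 7, 11, 5, 9]
noncomputable def mm_48 : MM := mkMM [0, 1, 2, 3, 7, 11, 8, 6, 4, 5, 9, 10]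
noncomputable def mz_23 : MZ := mkMZ [0, 1, 2, 3, 7, 11, 8, 6, 4, 5, 9, 10]
noncomputable def mm_49 : MM := mkMM [0, 1, 2, 3, 8, 9, 7, 4, 6, 10, 11, 5]
noncomputable def mz_24 : MZ := mkMZ [0, 1, 2, 3, 8, 9, 7, 4, 6, 10, 11, 5]
noncomputable def mm_50 : MM := mkMM [0, 1, 2, 3, 9, 7, 11, 10, 5, 6, 8, 4]
noncomputable def mm_51 : MM := mkMM [0, 1, 2, 3, 10, 4, 5, 11, 9, 7, 6, 8]
noncomputable def mz_25 : MZ := mkMZ [0, 1, 2, 3, 10, 4, 5, 11, 9, 7, 6, 8]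
noncomputable def mm_52 : MM := mkMM [0, 1, 2, 3, 11, 8, 9, 5, 10, 4, 7, 6]
noncomputable def mz_26 : MZ := mkMZ [0, 1, 2, 3, 11, 8, 9, 5, 10, 4, 7, 6]
noncomputable def mm_53 : MM := mkMM [0, 1, 3, 2, 4, 7, 6, 5, 10, 11, 8, 9]
noncomputable def mm_54 : MM := mkMM [0, 3, 2, 1, 4, 9, 6, 8, 7, 5, 11, 10]
noncomputable def mz_27 : MZ := mkMZ [0, 3, 2, 1, 4, 9, 6, 8, 7, 5, 11, 10]
noncomputable def mm_55 : MM := mkMM [0, 2, 1, 3, 4, 10, 6, 11, 9, 8, 5, 7]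
noncomputable def LZ : Tb MM MZ := [(mm_46, mz_22, tq 4 5),
  (mm_47, zZ, tq 4 6),
  (mm_48, mz_23, tq 4 7),
  (mm_49, mz_24, tq 4 8),
  (mm_50, mz_20, tq 4 9),
  (mm_51, mz_25, tq 4 10),
  (mm_52, mz_26, tq 4 11),
  (mm_53, sZ, tq 5 7),
  (TMM_2_8, TMZ_1_8, tq 5 8),
  (mm_54, mz_27, tq 5 9),
  (mm_55, TMZ_1_10, tq 5 10),
  (TMM_2_11, ρZ, tq 5 11),
  (TMM_4_11, TMZ_2_1, tq 0 1),
  (TMM_4_9, TMZ_2_2, tq 0 2),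
  (TMM_4_8, TMZ_2_3, tq 0 3)]
noncomputable def t1 (a : K0) : Bool := decide (a.1 ≠ 1)
noncomputable def mz_28 : MZ := mkMZ [1, 0, 2, 3, 9, 5, 11, 8, 7, 4, 10, 6]
noncomputable def mz_29 : MZ := mkMZ [1, 0, 2, 3, 4, 8, 6, 10, 5, 11, 7, 9]
noncomputable def mz_30 : MZ := mkMZ [2, 3, 0, 1, 6, 5, 4, 8, 7, 9, 10, 11]
noncomputable def mz_31 : MZ := mkMZ [3, 2, 0, 1, 4, 8, 6, 5, 10, 9, 7, 11]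
noncomputable def Lg : Tb K0 K0 := [(e0, e0, t1),
  (u0, (1, mz_28), tp2 0 3),
  ((1, mz_29), (1, mz_30), tp2 0 1),
  (s0, (1, TMZ_2_3), tp2 2 4),
  (y0, (1, mz_31), tp2 4 80),
  (z0, v0, tp2 4 16)]
noncomputable def Lr : Tb K0 K0 := [(ρ0, ρ0, fun a => decide (a * a ≠ 1)), (ρ0, ρ0, fun a => decide (a * a ≠ 1)),
  (e0, e0 * z0, t1), (z0, z0, fun a => decide (a ≠ 1))]
noncomputable def lG : List K0 := [ι0, ρ0, s0, z0, e0]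
noncomputable def lG' (i s : K0) : List K0 := [i, ρ0, s, z0, e0 * z0]
noncomputable def lT0 : List K0 := [e0, s0, ι0, q0, u0]
def RI : List (List ℕ) := [[1, 1], [1, 3, 1, 3, 1, 3], [1, 5, 1, 5, 1, 5, 1, 5], [1, 3, 5, 1, 5, 4, 1, 3, 5, 1, 5, 4, 7]]
noncomputable def WT : List (List ℕ × (K0 → Bool)) := [([9], t1), ([3, 1, 5, 1, 3, 5, 7], tp2 0 3), ([1, 5, 1, 7], tp2 0 1), ([5], tp2 2 4), ([3, 1, 5, 1, 3, 5, 1], tp2 4 80), ([7], tp2 4 16)]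
noncomputable def Lθ (l : List K0) : Tb K0 K0 := WT.map fun p => (ev (env lG) p.1, ev (env l) p.1, p.2)
noncomputable def F1 (l : List K0) (a : K0) : Option K0 := (ap Lg a).bind (ap (Lθ l))
noncomputable def F3 (l : List K0) (a : K0) : Option K0 := ((F1 l a).bind (F1 l)).bind (F1 l)
noncomputable def h0 : K0 := 1
noncomputable def h0b : K0 := (ε, vZ)
noncomputable def mz_32 : MZ := mkMZ [3, 2, 1, 0, 9, 7, 11, 5, 10, 4, 8, 6]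
noncomputable def h1 : K0 := (ε, mz_32)
noncomputable def h1b : K0 := ι0
theorem card_MM : Nat.card MM = 95040 :=
  (PE.card CMM_ok rfl).trans (by decide +kernel)

theorem card_MZ : Nat.card MZ = 192 :=
  (PE.card CMZ_ok rfl).trans (by decide +kernel)

theorem topZ : ∀ {M : Subgroup MZ}, (∀ a ∈ [ιZ, ρZ, sZ], a ∈ M) → M = ⊤ :=
  PE.top_of (by decide +kernel)

theorem LZ_ok : ∀ t ∈ LZ, t.1 = iZ t.2.1 :=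
  by decide +kernel

theorem cenZ : ∀ x : MM, (∀ u ∈ [iZ zZ], x * u = u * x) → (ap LZ x).isSome = true :=
  TMM_tr.cen _ [[], [(0, [(4, 6), (6, 4)])], [], [(0, [(5, 10), (10, 5)])], [(0, [(0, 0), (1, 1), (2, 2), (3, 3), (7, 8), (8, 7), (9, 11), (11, 9)])]] (by decide +kernel)

theorem tabM : (∀ t ∈ Lg, t.1.1 = t.2.1.1 ∧ cM * iZ t.1.2 = iZ t.2.1.2 * cM) ∧ cM * cM * cM = 1 ∧
    iZ qZ * cM * (iZ qZ * cM) = 1 :=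
  by decide +kernel

theorem ctrM : ∀ y : MZ, iZ y * cM = cM * iZ y → y * ρZ = ρZ * y → y = 1 :=
  by decide +kernel

theorem ciz0 : Ci z0 :=
  ⟨by decide +kernel, by decide +kernel, by decide +kernel⟩

theorem cie0 : Ci e0 :=
  ⟨by decide +kernel, by decide +kernel, by decide +kernel⟩

/-- a Sylow subgroup -/
noncomputable abbrev TK : Subgroup K0 := cmz ciz0 v0
theorem k1 : ∀ a : K0, (a ∈ TK → a ^ 2 ^ 3 = 1) ∧ (a * s0 * a⁻¹ ∈ TK → a ∈ TK) ∧ ((∀ t ∈ lT0, t * a = a * t) →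
    a = 1 ∨ a = z0 ∨ a = e0 ∨ a = e0 * z0) ∧ (a * a * a = 1 → a = 1 ∨ ∃ k : MZ, (1, k) * a = ρ0 * (1, k)) ∧
    (a * ρ0 = ρ0 * a → a * a * a = 1 ∨ a * a * a = z0 ∨ a * a * a = e0 ∨ a * a * a = e0 * z0) ∧
    (a * a = 1 → a * ρ0 * (a * ρ0) = 1 → ∃ y ∈ ap Lr (s0⁻¹ * a), (a * y = s0 → a = s0 ∨ a = s0 * z0)) :=
  by decide +kernel

theorem k2 : (∀ t ∈ lT0, t ∈ TK) ∧ y0 ∈ TK ∧ y0 * y0 = z0 ∧ z0 ∈ TK ∧ (∀ w ∈ RI, ev (env lG) w = 1) ∧ s0 * s0 = 1 ∧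
    s0 * ρ0 * (s0 * ρ0) = 1 ∧ ρ0 * ρ0 * ρ0 = 1 ∧ ρ0 ≠ 1 ∧ e0 ≠ e0 * z0 ∧ e0 * z0 * z0 * e0 = 1 :=
  by decide +kernel

theorem k3 : ∀ s ∈ [s0, s0 * z0], ∀ a : K0, (∀ w ∈ RI, ev (env (lG' a s)) w = 1) → a = ι0 ∨ a = ιb :=
  by decide +kernel

/-- the check on the cube of `f c` -/
abbrev HK (l : List K0) (Q : K0 → Prop) : Prop := F3 l e0 = some e0 ∧ F3 l z0 = some z0 ∧
  ∀ h : K0, (∀ t ∈ Lg, ∀ b ∈ F3 l t.1, h * t.1 = b * h) → ∃ h' ∈ F1 l h, (h' = h → Q h)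
theorem k4 : ∀ s ∈ [s0, s0 * z0], HK (lG' ιb s) fun _ => False :=
  by decide +kernel

theorem k5 : HK (lG' ι0 s0) fun h => h = h0 ∨ h = h0b :=
  by decide +kernel

theorem k6 : HK (lG' ι0 (s0 * z0)) fun h => h = h1 ∨ h = h1b :=
  by decide +kernel

end CF.Yc
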