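import Cfsg.Agent.Yc.C

/-! The case of `Sp₆(2)`: finite checks. -/

set_option autoImplicit false
set_option maxRecDepth 100000
set_option maxHeartbeats 0
set_option Elab.async false
set_option synthInstance.maxSize 4000
set_option synthInstance.maxHeartbeats 400000

namespace CF.Yc

open CF.Perm.SS CF.Comp CF.W2 CF.Yo

def CDW : List Perm.SS.Lvl := [
  ⟨0, [[1, 0, 3, 2, 4, 5, 6, 7, 8, 9, 10, 11], [0, 1, 3, 2, 5, 4, 6, 7, 8, 9, 10, 11], [0, 1, 2, 3, 5, 4, 7, 6, 8, 9, 10, 11], [0, 1, 2, 3, 4, 5, 7, 6, 9, 8, 10, 11], [1, 0, 3, 2, 5, 4, 7, 6, 9, 8, 11, 10]],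
   [(0, [], [0, 1, 2, 3, 4, 5, 6, 7, 8, 9, 10, 11]), (1, [0], [1, 0, 3, 2, 4, 5, 6, 7, 8, 9, 10, 11])],
   [[1], [2], [3], [0, 4]]⟩,
  ⟨2, [[0, 1, 3, 2, 5, 4, 6, 7, 8, 9, 10, 11], [0, 1, 2, 3, 5, 4, 7, 6, 8, 9, 10, 11], [0, 1, 2, 3, 4, 5, 7, 6, 9, 8, 10, 11], [0, 1, 2, 3, 5, 4, 7, 6, 9, 8, 11, 10]],
   [(2, [], [0, 1, 2, 3, 4, 5, 6, 7, 8, 9, 10, 11]), (3, [0], [0, 1, 3, 2, 5, 4, 6, 7, 8, 9, 10, 11])],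
   [[1], [2], [3]]⟩,
  ⟨4, [[0, 1, 2, 3, 5, 4, 7, 6, 8, 9, 10, 11], [0, 1, 2, 3, 4, 5, 7, 6, 9, 8, 10, 11], [0, 1, 2, 3, 5, 4, 7, 6, 9, 8, 11, 10]],
   [(4, [], [0, 1, 2, 3, 4, 5, 6, 7, 8, 9, 10, 11]), (5, [0], [0, 1, 2, 3, 5, 4, 7, 6, 8, 9, 10, 11])],
   [[1], [0, 2]]⟩,
  ⟨6, [[0, 1, 2, 3, 4, 5, 7, 6, 9, 8, 10, 11], [0, 1, 2, 3, 4, 5, 6, 7, 9, 8, 11, 10]],
   [(6, [], [0, 1, 2, 3, 4, 5, 6, 7, 8, 9, 10, 11]), (7, [0], [0, 1, 2, 3, 4, 5, 7, 6, 9, 8, 10, 11])],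
   [[1]]⟩,
  ⟨8, [[0, 1, 2, 3, 4, 5, 6, 7, 9, 8, 11, 10]],
   [(8, [], [0, 1, 2, 3, 4, 5, 6, 7, 8, 9, 10, 11]), (9, [0], [0, 1, 2, 3, 4, 5, 6, 7, 9, 8, 11, 10])],
   []⟩]
theorem CDW_ok : chainOK P12.n CDW = true := by decide +kernel
abbrev DW : Type := PE P12 (gens CDW)
noncomputable def mkDW (l : List ℕ) (h : (valb P12.n l && sift P12.n CDW l) = true := by decide +kernel) : DW :=
  PE.mk' l (PE.ex_of CDW_ok rfl h)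
noncomputable def TDW_0_0 : DW := mkDW [0, 1, 2, 3, 4, 5, 6, 7, 8, 9, 10, 11]
noncomputable def TDW_0_1 : DW := mkDW [1, 0, 3, 2, 4, 5, 6, 7, 8, 9, 10, 11]
noncomputable def TDW_1_3 : DW := mkDW [0, 1, 3, 2, 5, 4, 6, 7, 8, 9, 10, 11]
noncomputable def TDW_2_5 : DW := mkDW [0, 1, 2, 3, 5, 4, 7, 6, 8, 9, 10, 11]
noncomputable def TDW_3_7 : DW := mkDW [0, 1, 2, 3, 4, 5, 7, 6, 9, 8, 10, 11]
noncomputable def TDW_4_9 : DW := mkDW [0, 1, 2, 3, 4, 5, 6, 7, 9, 8, 11, 10]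
noncomputable def TDW : List (List DW) := [[TDW_0_0, TDW_0_1],
  [TDW_0_0, TDW_1_3],
  [TDW_0_0, TDW_2_5],
  [TDW_0_0, TDW_3_7],
  [TDW_0_0, TDW_4_9]]
theorem TDW_tr : PE.Tr TDW := PE.tr_of CDW_ok rfl (by decide +kernel)
noncomputable instance enDW : PE.Enm P12 (gens CDW) := ⟨TDW, TDW_tr⟩
def CS6 : List Perm.SS.Lvl := [
  ⟨0, [[4, 5, 6, 7, 0, 1, 8, 9, 2, 3, 10, 11], [0, 1, 6, 7, 4, 5, 2, 3, 10, 11, 8, 9], [6, 7, 10, 11, 2, 3, 8, 9, 0, 1, 4, 5], [0, 1, 10, 11, 4, 5, 8, 9, 6, 7, 2, 3], [4, 5, 6, 7, 0, 1, 2, 3, 10, 11, 8, 9], [4, 5, 10, 11, 0, 1, 8, 9, 6, 7, 2, 3]],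
   [(0, [], [0, 1, 2, 3, 4, 5, 6, 7, 8, 9, 10, 11]), (4, [0], [4, 5, 6, 7, 0, 1, 8, 9, 2, 3, 10, 11]), (8, [2], [6, 7, 10, 11, 2, 3, 8, 9, 0, 1, 4, 5]), (10, [0, 2], [8, 9, 10, 11, 6, 7, 2, 3, 4, 5, 0, 1]), (6, [2, 0], [2, 3, 8, 9, 6, 7, 0, 1, 10, 11, 4, 5]), (2, [0, 2, 2], [2, 3, 0, 1, 10, 11, 4, 5, 8, 9, 6, 7])],
   [[0, 0], [2, 0, 2]]⟩,
  ⟨2, [[0, 1, 8, 9, 4, 5, 2, 3, 6, 7, 10, 11], [0, 1, 4, 5, 8, 9, 10, 11, 2, 3, 6, 7]],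
   [(2, [], [0, 1, 2, 3, 4, 5, 6, 7, 8, 9, 10, 11]), (6, [0], [0, 1, 8, 9, 4, 5, 2, 3, 6, 7, 10, 11]), (8, [1], [0, 1, 4, 5, 8, 9, 10, 11, 2, 3, 6, 7]), (10, [0, 1], [0, 1, 4, 5, 6, 7, 10, 11, 8, 9, 2, 3]), (4, [1, 1], [0, 1, 8, 9, 2, 3, 6, 7, 4, 5, 10, 11])],
   [[1, 0], [1, 1, 1]]⟩,
  ⟨4, [[0, 1, 2, 3, 8, 9, 4, 5, 10, 11, 6, 7], [0, 1, 2, 3, 4, 5, 10, 11, 8, 9, 6, 7]],
   [(4, [], [0, 1, 2, 3, 4, 5, 6, 7, 8, 9, 10, 11]), (6, [0], [0, 1, 2, 3, 8, 9, 4, 5, 10, 11, 6, 7]), (10, [0, 0], [0, 1, 2, 3, 10, 11, 8, 9, 6, 7, 4, 5]), (8, [0, 0, 0], [0, 1, 2, 3, 6, 7, 10, 11, 4, 5, 8, 9])],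
   [[1], [0, 1, 0, 0]]⟩,
  ⟨6, [[0, 1, 2, 3, 4, 5, 10, 11, 8, 9, 6, 7], [0, 1, 2, 3, 4, 5, 10, 11, 6, 7, 8, 9]],
   [(6, [], [0, 1, 2, 3, 4, 5, 6, 7, 8, 9, 10, 11]), (10, [0], [0, 1, 2, 3, 4, 5, 10, 11, 8, 9, 6, 7]), (8, [1], [0, 1, 2, 3, 4, 5, 10, 11, 6, 7, 8, 9])],
   [[0, 1]]⟩,
  ⟨8, [[0, 1, 2, 3, 4, 5, 6, 7, 10, 11, 8, 9]],
   [(8, [], [0, 1, 2, 3, 4, 5, 6, 7, 8, 9, 10, 11]), (10, [0], [0, 1, 2, 3, 4, 5, 6, 7, 10, 11, 8, 9])],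
   []⟩]
theorem CS6_ok : chainOK P12.n CS6 = true := by decide +kernel
abbrev S6 : Type := PE P12 (gens CS6)
noncomputable def mkS6 (l : List ℕ) (h : (valb P12.n l && sift P12.n CS6 l) = true := by decide +kernel) : S6 :=
  PE.mk' l (PE.ex_of CS6_ok rfl h)
noncomputable def TS6_0_0 : S6 := mkS6 [0, 1, 2, 3, 4, 5, 6, 7, 8, 9, 10, 11]
noncomputable def TS6_0_4 : S6 := mkS6 [4, 5, 8, 9, 0, 1, 2, 3, 6, 7, 10, 11]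
noncomputable def TS6_0_8 : S6 := mkS6 [8, 9, 4, 5, 10, 11, 0, 1, 6, 7, 2, 3]
noncomputable def TS6_0_10 : S6 := mkS6 [10, 11, 6, 7, 8, 9, 4, 5, 0, 1, 2, 3]
noncomputable def TS6_0_6 : S6 := mkS6 [6, 7, 0, 1, 10, 11, 4, 5, 2, 3, 8, 9]
noncomputable def TS6_0_2 : S6 := mkS6 [2, 3, 0, 1, 6, 7, 10, 11, 8, 9, 4, 5]
noncomputable def TS6_1_6 : S6 := mkS6 [0, 1, 6, 7, 4, 5, 8, 9, 2, 3, 10, 11]
noncomputable def TS6_1_8 : S6 := mkS6 [0, 1, 8, 9, 2, 3, 10, 11, 4, 5, 6, 7]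
noncomputable def TS6_1_10 : S6 := mkS6 [0, 1, 10, 11, 2, 3, 4, 5, 8, 9, 6, 7]
noncomputable def TS6_1_4 : S6 := mkS6 [0, 1, 4, 5, 8, 9, 6, 7, 2, 3, 10, 11]
noncomputable def TS6_2_6 : S6 := mkS6 [0, 1, 2, 3, 6, 7, 10, 11, 4, 5, 8, 9]
noncomputable def TS6_2_10 : S6 := mkS6 [0, 1, 2, 3, 10, 11, 8, 9, 6, 7, 4, 5]
noncomputable def TS6_2_8 : S6 := mkS6 [0, 1, 2, 3, 8, 9, 4, 5, 10, 11, 6, 7]
noncomputable def TS6_3_10 : S6 := mkS6 [0, 1, 2, 3, 4, 5, 10, 11, 8, 9, 6, 7]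
noncomputable def TS6_3_8 : S6 := mkS6 [0, 1, 2, 3, 4, 5, 8, 9, 10, 11, 6, 7]
noncomputable def TS6_4_10 : S6 := mkS6 [0, 1, 2, 3, 4, 5, 6, 7, 10, 11, 8, 9]
noncomputable def TS6 : List (List S6) := [[TS6_0_0, TS6_0_4, TS6_0_8, TS6_0_10, TS6_0_6, TS6_0_2],
  [TS6_0_0, TS6_1_6, TS6_1_8, TS6_1_10, TS6_1_4],
  [TS6_0_0, TS6_2_6, TS6_2_10, TS6_2_8],
  [TS6_0_0, TS6_3_10, TS6_3_8],
  [TS6_0_0, TS6_4_10]]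
theorem TS6_tr : PE.Tr TS6 := PE.tr_of CS6_ok rfl (by decide +kernel)
noncomputable instance enS6 : PE.Enm P12 (gens CS6) := ⟨TS6, TS6_tr⟩
theorem hiD : grp P12.n (gens CDW) ≤ grp P12.n (gens CW) := PE.grp_le CW_ok rfl (by decide +kernel)
noncomputable def iD : DW →* W := PE.incl hiD
theorem iD_inj : Function.Injective iD := PE.incl_inj _
theorem hiS : grp P12.n (gens CS6) ≤ grp P12.n (gens CW) := PE.grp_le CW_ok rfl (by decide +kernel)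
noncomputable def iS : S6 →* W := PE.incl hiS
theorem iS_inj : Function.Injective iS := PE.incl_inj _
noncomputable def d1 : DW := mkDW [1, 0, 3, 2, 4, 5, 6, 7, 8, 9, 10, 11]
noncomputable def d2 : DW := mkDW [0, 1, 3, 2, 5, 4, 6, 7, 8, 9, 10, 11]
noncomputable def d3 : DW := mkDW [0, 1, 2, 3, 5, 4, 7, 6, 8, 9, 10, 11]
noncomputable def d4 : DW := mkDW [0, 1, 2, 3, 4, 5, 7, 6, 9, 8, 10, 11]
noncomputable def ω : DW := mkDW [1, 0, 3, 2, 5, 4, 7, 6, 9, 8, 11, 10]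
noncomputable def σx : S6 := mkS6 [4, 5, 6, 7, 0, 1, 8, 9, 2, 3, 10, 11]
noncomputable def αB : B1 := eB1 * fB1
noncomputable def b1_67 : B1 := mkB1 [6, 7, 12, 13, 10, 11, 1, 0, 14, 15, 5, 4, 3, 2, 9, 8]
noncomputable def dw_7 : DW := mkDW [0, 1, 2, 3, 4, 5, 7, 6, 8, 9, 11, 10]
noncomputable def b1_68 : B1 := mkB1 [4, 5, 14, 15, 0, 1, 11, 10, 12, 13, 7, 6, 8, 9, 2, 3]
noncomputable def dw_8 : DW := mkDW [1, 0, 3, 2, 4, 5, 7, 6, 9, 8, 10, 11]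
noncomputable def b1_69 : B1 := mkB1 [2, 3, 0, 1, 14, 15, 13, 12, 10, 11, 8, 9, 7, 6, 4, 5]
noncomputable def dw_9 : DW := mkDW [0, 1, 3, 2, 5, 4, 6, 7, 9, 8, 11, 10]
noncomputable def dw_10 : DW := mkDW [0, 1, 3, 2, 4, 5, 7, 6, 9, 8, 11, 10]
noncomputable def dw_11 : DW := mkDW [1, 0, 2, 3, 5, 4, 6, 7, 9, 8, 11, 10]
noncomputable def dw_12 : DW := mkDW [1, 0, 3, 2, 5, 4, 7, 6, 8, 9, 10, 11]
noncomputable def LD : Tb B1 DW := [(b1_67, dw_7, tp 0 49215),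
  (b1_68, dw_8, tp 0 15),
  (b1_69, dw_9, tp 0 3),
  (b1_61, dw_10, tp 0 1),
  (b1_53, dw_11, tp 2 4),
  (TB1_2_5, dw_12, tp 4 16)]
noncomputable def b1_70 : B1 := mkB1 [8, 9, 10, 11, 13, 12, 15, 14, 1, 0, 3, 2, 4, 5, 6, 7]
noncomputable def b1_71 : B1 := mkB1 [12, 13, 6, 7, 9, 8, 2, 3, 5, 4, 14, 15, 0, 1, 10, 11]
noncomputable def b1_72 : B1 := mkB1 [12, 13, 7, 6, 9, 8, 3, 2, 5, 4, 15, 14, 0, 1, 11, 10]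
noncomputable def b1_73 : B1 := mkB1 [6, 7, 12, 13, 11, 10, 0, 1, 14, 15, 5, 4, 2, 3, 8, 9]
noncomputable def b1_74 : B1 := mkB1 [6, 7, 13, 12, 10, 11, 0, 1, 14, 15, 4, 5, 3, 2, 8, 9]
noncomputable def LX : List (B1 × B1) := [(b1_67, b1_70), (b1_68, b1_71), (b1_69, b1_72), (b1_61, vB1), (b1_53, b1_73), (TB1_2_5, b1_74)]
noncomputable def s6_17 : S6 := mkS6 [0, 1, 6, 7, 4, 5, 2, 3, 10, 11, 8, 9]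
noncomputable def s6_18 : S6 := mkS6 [6, 7, 10, 11, 2, 3, 8, 9, 0, 1, 4, 5]
noncomputable def s6_19 : S6 := mkS6 [0, 1, 10, 11, 4, 5, 8, 9, 6, 7, 2, 3]
noncomputable def s6_20 : S6 := mkS6 [4, 5, 6, 7, 0, 1, 2, 3, 10, 11, 8, 9]
noncomputable def s6_21 : S6 := mkS6 [4, 5, 10, 11, 0, 1, 8, 9, 6, 7, 2, 3]
noncomputable def lPS : List (B1 × S6) := [(ιB1, s6_17), (ρB1, s6_18), (sB1, s6_19), (eB1, s6_20), (fB1, s6_20), (nB1, s6_21)]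
noncomputable def dw_13 : DW := mkDW [0, 1, 2, 3, 5, 4, 6, 7, 8, 9, 11, 10]
noncomputable def dw_14 : DW := mkDW [0, 1, 2, 3, 5, 4, 6, 7, 9, 8, 10, 11]
noncomputable def dw_15 : DW := mkDW [0, 1, 3, 2, 4, 5, 6, 7, 8, 9, 11, 10]
noncomputable def dw_16 : DW := mkDW [0, 1, 3, 2, 4, 5, 6, 7, 9, 8, 10, 11]
noncomputable def dw_17 : DW := mkDW [0, 1, 3, 2, 4, 5, 7, 6, 8, 9, 10, 11]
noncomputable def dw_18 : DW := mkDW [1, 0, 2, 3, 4, 5, 6, 7, 8, 9, 11, 10]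
noncomputable def dw_19 : DW := mkDW [1, 0, 2, 3, 4, 5, 6, 7, 9, 8, 10, 11]
noncomputable def dw_20 : DW := mkDW [1, 0, 2, 3, 4, 5, 7, 6, 8, 9, 10, 11]
noncomputable def dw_21 : DW := mkDW [1, 0, 2, 3, 5, 4, 6, 7, 8, 9, 10, 11]
noncomputable def lq : List DW := [TDW_4_9, dw_7, d4, dw_13, dw_14, d3, dw_15, dw_16, dw_17, d2, dw_18, dw_19, dw_20, dw_21, d1, ω]
noncomputable def lA1 : List B1 := [eB1, zB1, fB1, sB1, b1_59]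
theorem ciz1 : Ci zB1 :=
  ⟨by decide +kernel, by decide +kernel, by decide +kernel⟩

/-- a Sylow subgroup -/
noncomputable abbrev TB : Subgroup B1 := cmz ciz1 vB1
noncomputable def rB1 : B1 := mkB1 [0, 1, 4, 5, 2, 3, 7, 6, 8, 9, 12, 13, 10, 11, 15, 14]
noncomputable def b1_75 : B1 := mkB1 [8, 9, 4, 5, 2, 3, 14, 15, 1, 0, 12, 13, 10, 11, 7, 6]
noncomputable def b1_76 : B1 := mkB1 [8, 9, 13, 12, 3, 2, 6, 7, 0, 1, 5, 4, 10, 11, 15, 14]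
noncomputable def b1_77 : B1 := mkB1 [14, 15, 10, 11, 4, 5, 0, 1, 6, 7, 2, 3, 13, 12, 9, 8]
noncomputable def b1_78 : B1 := mkB1 [6, 7, 5, 4, 11, 10, 9, 8, 14, 15, 13, 12, 2, 3, 0, 1]
noncomputable def lE : List B1 := [1, fB1, nB1, b1_75, b1_76, b1_77, TB1_2_12, b1_78]
noncomputable def b1_79 : B1 := mkB1 [12, 13, 1, 0, 6, 7, 11, 10, 4, 5, 8, 9, 15, 14, 3, 2]
noncomputable def lT : List B1 := [b1_79, b1_76]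
noncomputable def b1_80 : B1 := mkB1 [6, 7, 3, 2, 5, 4, 1, 0, 14, 15, 11, 10, 13, 12, 9, 8]
noncomputable def b1_81 : B1 := mkB1 [0, 1, 13, 12, 11, 10, 6, 7, 8, 9, 4, 5, 2, 3, 14, 15]
noncomputable def b1_82 : B1 := mkB1 [14, 15, 5, 4, 0, 1, 11, 10, 6, 7, 12, 13, 9, 8, 3, 2]
noncomputable def b1_83 : B1 := mkB1 [14, 15, 9, 8, 3, 2, 4, 5, 6, 7, 1, 0, 10, 11, 13, 12]
noncomputable def b1_84 : B1 := mkB1 [12, 13, 7, 6, 3, 2, 8, 9, 4, 5, 14, 15, 10, 11, 0, 1]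
noncomputable def b1_85 : B1 := mkB1 [3, 2, 5, 4, 14, 15, 8, 9, 10, 11, 12, 13, 6, 7, 0, 1]
noncomputable def b1_86 : B1 := mkB1 [3, 2, 0, 1, 5, 4, 7, 6, 11, 10, 8, 9, 13, 12, 15, 14]
noncomputable def b1_87 : B1 := mkB1 [1, 0, 7, 6, 5, 4, 2, 3, 9, 8, 15, 14, 13, 12, 10, 11]
noncomputable def b1_88 : B1 := mkB1 [4, 5, 3, 2, 1, 0, 7, 6, 12, 13, 11, 10, 9, 8, 15, 14]
noncomputable def b1_89 : B1 := mkB1 [1, 0, 3, 2, 7, 6, 4, 5, 9, 8, 11, 10, 15, 14, 12, 13]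
noncomputable def b1_90 : B1 := mkB1 [12, 13, 9, 8, 6, 7, 3, 2, 4, 5, 1, 0, 15, 14, 10, 11]
noncomputable def b1_91 : B1 := mkB1 [11, 10, 15, 14, 0, 1, 4, 5, 3, 2, 7, 6, 9, 8, 13, 12]
noncomputable def b1_92 : B1 := mkB1 [14, 15, 4, 5, 1, 0, 11, 10, 6, 7, 13, 12, 8, 9, 3, 2]
noncomputable def b1_93 : B1 := mkB1 [14, 15, 9, 8, 2, 3, 5, 4, 6, 7, 1, 0, 11, 10, 12, 13]
noncomputable def b1_94 : B1 := mkB1 [12, 13, 6, 7, 2, 3, 8, 9, 4, 5, 15, 14, 11, 10, 0, 1]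
noncomputable def b1_95 : B1 := mkB1 [3, 2, 7, 6, 8, 9, 12, 13, 10, 11, 14, 15, 0, 1, 4, 5]
noncomputable def b1_96 : B1 := mkB1 [15, 14, 0, 1, 3, 2, 12, 13, 7, 6, 9, 8, 10, 11, 4, 5]
noncomputable def b1_97 : B1 := mkB1 [15, 14, 5, 4, 1, 0, 11, 10, 7, 6, 12, 13, 8, 9, 3, 2]
noncomputable def b1_98 : B1 := mkB1 [2, 3, 4, 5, 14, 15, 8, 9, 11, 10, 13, 12, 6, 7, 0, 1]
noncomputable def b1_99 : B1 := mkB1 [4, 5, 1, 0, 14, 15, 11, 10, 13, 12, 8, 9, 6, 7, 3, 2]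
noncomputable def b1_100 : B1 := mkB1 [10, 11, 5, 4, 7, 6, 8, 9, 2, 3, 12, 13, 14, 15, 0, 1]
noncomputable def b1_101 : B1 := mkB1 [14, 15, 8, 9, 2, 3, 4, 5, 6, 7, 0, 1, 11, 10, 13, 12]
noncomputable def b1_102 : B1 := mkB1 [14, 15, 5, 4, 9, 8, 2, 3, 6, 7, 12, 13, 1, 0, 11, 10]
noncomputable def b1_103 : B1 := mkB1 [12, 13, 6, 7, 3, 2, 9, 8, 4, 5, 15, 14, 10, 11, 1, 0]
noncomputable def b1_104 : B1 := mkB1 [5, 4, 14, 15, 3, 2, 8, 9, 12, 13, 6, 7, 10, 11, 0, 1]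
noncomputable def b1_105 : B1 := mkB1 [2, 3, 5, 4, 15, 14, 8, 9, 11, 10, 12, 13, 7, 6, 0, 1]
noncomputable def b1_106 : B1 := mkB1 [12, 13, 0, 1, 15, 14, 3, 2, 4, 5, 9, 8, 7, 6, 10, 11]
noncomputable def b1_107 : B1 := mkB1 [12, 13, 1, 0, 15, 14, 2, 3, 4, 5, 8, 9, 7, 6, 11, 10]
noncomputable def b1_108 : B1 := mkB1 [11, 10, 6, 7, 9, 8, 4, 5, 3, 2, 15, 14, 1, 0, 13, 12]
noncomputable def b1_109 : B1 := mkB1 [5, 4, 1, 0, 14, 15, 10, 11, 12, 13, 8, 9, 6, 7, 2, 3]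
noncomputable def lS : List B1 := [1, b1_80, αB, b1_81, b1_82, b1_83, b1_84, b1_85, b1_86, b1_87, b1_88, b1_89, b1_90, b1_91, b1_92, b1_93, b1_94, b1_95, b1_96, b1_97, b1_98, b1_99, b1_100, b1_101, b1_102, b1_103, b1_104, b1_105, b1_106, b1_107, b1_108, b1_109]
noncomputable def b1_110 : B1 := mkB1 [8, 9, 2, 3, 6, 7, 12, 13, 0, 1, 11, 10, 15, 14, 4, 5]
noncomputable def b1_111 : B1 := mkB1 [8, 9, 7, 6, 4, 5, 11, 10, 0, 1, 14, 15, 13, 12, 3, 2]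
noncomputable def b1_112 : B1 := mkB1 [14, 15, 1, 0, 3, 2, 12, 13, 6, 7, 8, 9, 10, 11, 4, 5]
noncomputable def lF : List B1 := [1, eB1, nB1, b1_110, b1_81, b1_82, b1_111, b1_112]
noncomputable def b1_113 : B1 := mkB1 [4, 5, 7, 6, 0, 1, 3, 2, 12, 13, 15, 14, 8, 9, 11, 10]
noncomputable def b1_114 : B1 := mkB1 [5, 4, 1, 0, 7, 6, 2, 3, 13, 12, 9, 8, 15, 14, 10, 11]
noncomputable def b1_115 : B1 := mkB1 [0, 1, 5, 4, 11, 10, 14, 15, 8, 9, 13, 12, 2, 3, 7, 6]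
noncomputable def b1_116 : B1 := mkB1 [6, 7, 2, 3, 12, 13, 8, 9, 15, 14, 11, 10, 4, 5, 0, 1]
noncomputable def b1_117 : B1 := mkB1 [2, 3, 7, 6, 1, 0, 5, 4, 10, 11, 15, 14, 9, 8, 13, 12]
noncomputable def b1_118 : B1 := mkB1 [1, 0, 5, 4, 2, 3, 7, 6, 9, 8, 13, 12, 10, 11, 15, 14]
noncomputable def b1_119 : B1 := mkB1 [4, 5, 1, 0, 14, 15, 11, 10, 12, 13, 9, 8, 7, 6, 2, 3]
noncomputable def b1_120 : B1 := mkB1 [7, 6, 2, 3, 5, 4, 1, 0, 15, 14, 10, 11, 13, 12, 9, 8]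
noncomputable def lR1 : List B1 := [1, ιB1, b1_76, b1_77, b1_113, b1_90, qB1, b1_114, b1_115, b1_116, b1_91, b1_117, b1_118, b1_119, b1_95, b1_120]
noncomputable def b1_121 : B1 := mkB1 [0, 1, 3, 2, 7, 6, 5, 4, 8, 9, 11, 10, 15, 14, 13, 12]
noncomputable def b1_122 : B1 := mkB1 [0, 1, 6, 7, 5, 4, 2, 3, 8, 9, 14, 15, 13, 12, 10, 11]
noncomputable def b1_123 : B1 := mkB1 [8, 9, 15, 14, 4, 5, 3, 2, 0, 1, 7, 6, 13, 12, 10, 11]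
noncomputable def b1_124 : B1 := mkB1 [6, 7, 4, 5, 1, 0, 2, 3, 14, 15, 12, 13, 9, 8, 10, 11]
noncomputable def b1_125 : B1 := mkB1 [8, 9, 14, 15, 2, 3, 5, 4, 0, 1, 6, 7, 11, 10, 12, 13]
noncomputable def b1_126 : B1 := mkB1 [0, 1, 7, 6, 12, 13, 11, 10, 8, 9, 15, 14, 5, 4, 2, 3]
noncomputable def b1_127 : B1 := mkB1 [8, 9, 2, 3, 14, 15, 4, 5, 0, 1, 11, 10, 6, 7, 13, 12]
noncomputable def b1_128 : B1 := mkB1 [8, 9, 4, 5, 15, 14, 2, 3, 0, 1, 13, 12, 7, 6, 11, 10]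
noncomputable def b1_129 : B1 := mkB1 [14, 15, 8, 9, 5, 4, 2, 3, 6, 7, 0, 1, 12, 13, 11, 10]
noncomputable def b1_130 : B1 := mkB1 [14, 15, 3, 2, 9, 8, 5, 4, 6, 7, 10, 11, 1, 0, 12, 13]
noncomputable def b1_131 : B1 := mkB1 [4, 5, 0, 1, 7, 6, 2, 3, 12, 13, 8, 9, 15, 14, 10, 11]
noncomputable def b1_132 : B1 := mkB1 [8, 9, 3, 2, 13, 12, 7, 6, 0, 1, 10, 11, 5, 4, 14, 15]
noncomputable def b1_133 : B1 := mkB1 [7, 6, 2, 3, 1, 0, 4, 5, 15, 14, 10, 11, 9, 8, 12, 13]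
noncomputable def b1_134 : B1 := mkB1 [7, 6, 0, 1, 4, 5, 3, 2, 15, 14, 8, 9, 12, 13, 11, 10]
noncomputable def b1_135 : B1 := mkB1 [0, 1, 10, 11, 6, 7, 12, 13, 8, 9, 3, 2, 14, 15, 5, 4]
noncomputable def b1_136 : B1 := mkB1 [14, 15, 4, 5, 10, 11, 1, 0, 6, 7, 13, 12, 2, 3, 8, 9]
noncomputable def b1_137 : B1 := mkB1 [5, 4, 7, 6, 1, 0, 3, 2, 13, 12, 15, 14, 9, 8, 11, 10]
noncomputable def lR2 : List B1 := [1, ρB1, rB1, TB1_1_5, b1_121, b1_122, b1_123, b1_124, b1_44, b1_76, b1_125, b1_126, b1_127, b1_128, b1_77, b1_129, b1_130, b1_131, b1_132, b1_133, b1_134, b1_135, b1_136, b1_137]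
noncomputable def b1_138 : B1 := mkB1 [2, 3, 1, 0, 7, 6, 4, 5, 10, 11, 9, 8, 15, 14, 12, 13]
noncomputable def b1_139 : B1 := mkB1 [5, 4, 6, 7, 0, 1, 3, 2, 13, 12, 14, 15, 8, 9, 11, 10]
noncomputable def b1_140 : B1 := mkB1 [2, 3, 1, 0, 6, 7, 5, 4, 10, 11, 9, 8, 14, 15, 13, 12]
noncomputable def b1_141 : B1 := mkB1 [3, 2, 0, 1, 6, 7, 5, 4, 11, 10, 8, 9, 14, 15, 13, 12]
noncomputable def b1_142 : B1 := mkB1 [4, 5, 6, 7, 1, 0, 3, 2, 12, 13, 14, 15, 9, 8, 11, 10]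
noncomputable def b1_143 : B1 := mkB1 [4, 5, 7, 6, 1, 0, 2, 3, 12, 13, 15, 14, 9, 8, 10, 11]
noncomputable def b1_144 : B1 := mkB1 [7, 6, 5, 4, 2, 3, 0, 1, 15, 14, 13, 12, 10, 11, 8, 9]
noncomputable def b1_145 : B1 := mkB1 [5, 4, 7, 6, 0, 1, 2, 3, 13, 12, 15, 14, 8, 9, 10, 11]
noncomputable def b1_146 : B1 := mkB1 [14, 15, 13, 12, 10, 11, 9, 8, 6, 7, 5, 4, 2, 3, 1, 0]
noncomputable def b1_147 : B1 := mkB1 [10, 11, 9, 8, 15, 14, 12, 13, 2, 3, 1, 0, 7, 6, 4, 5]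
noncomputable def b1_148 : B1 := mkB1 [14, 15, 12, 13, 11, 10, 9, 8, 6, 7, 4, 5, 3, 2, 1, 0]
noncomputable def b1_149 : B1 := mkB1 [3, 2, 0, 1, 7, 6, 4, 5, 11, 10, 8, 9, 15, 14, 12, 13]
noncomputable def b1_150 : B1 := mkB1 [7, 6, 4, 5, 3, 2, 0, 1, 15, 14, 12, 13, 11, 10, 8, 9]
noncomputable def b1_151 : B1 := mkB1 [13, 12, 14, 15, 8, 9, 11, 10, 5, 4, 6, 7, 0, 1, 3, 2]
noncomputable def b1_152 : B1 := mkB1 [12, 13, 14, 15, 9, 8, 11, 10, 4, 5, 6, 7, 1, 0, 3, 2]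
noncomputable def b1_153 : B1 := mkB1 [12, 13, 15, 14, 9, 8, 10, 11, 4, 5, 7, 6, 1, 0, 2, 3]
noncomputable def b1_154 : B1 := mkB1 [6, 7, 4, 5, 3, 2, 1, 0, 14, 15, 12, 13, 11, 10, 9, 8]
noncomputable def b1_155 : B1 := mkB1 [10, 11, 9, 8, 14, 15, 13, 12, 2, 3, 1, 0, 6, 7, 5, 4]
noncomputable def b1_156 : B1 := mkB1 [11, 10, 8, 9, 15, 14, 12, 13, 3, 2, 0, 1, 7, 6, 4, 5]
noncomputable def b1_157 : B1 := mkB1 [15, 14, 12, 13, 11, 10, 8, 9, 7, 6, 4, 5, 3, 2, 0, 1]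
noncomputable def b1_158 : B1 := mkB1 [11, 10, 8, 9, 14, 15, 13, 12, 3, 2, 0, 1, 6, 7, 5, 4]
noncomputable def b1_159 : B1 := mkB1 [6, 7, 5, 4, 2, 3, 1, 0, 14, 15, 13, 12, 10, 11, 9, 8]
noncomputable def b1_160 : B1 := mkB1 [13, 12, 15, 14, 8, 9, 10, 11, 5, 4, 7, 6, 0, 1, 2, 3]
noncomputable def lI : List B1 := [b1_138, b1_139, b1_140, b1_141, b1_142, b1_143, b1_144, b1_145, b1_146, b1_147, b1_148, b1_149, b1_150, b1_151, b1_152, b1_153, b1_154, b1_155, b1_156, b1_157, b1_158, b1_60, b1_159, b1_160]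
noncomputable def b1_161 : B1 := mkB1 [2, 3, 0, 1, 6, 7, 4, 5, 11, 10, 9, 8, 15, 14, 13, 12]
noncomputable def b1_162 : B1 := mkB1 [14, 15, 3, 2, 4, 5, 9, 8, 7, 6, 11, 10, 12, 13, 0, 1]
noncomputable def b1_163 : B1 := mkB1 [1, 0, 3, 2, 4, 5, 6, 7, 8, 9, 10, 11, 13, 12, 15, 14]
noncomputable def b1_164 : B1 := mkB1 [0, 1, 12, 13, 10, 11, 6, 7, 9, 8, 4, 5, 2, 3, 15, 14]
noncomputable def b1_165 : B1 := mkB1 [0, 1, 2, 3, 5, 4, 7, 6, 9, 8, 11, 10, 12, 13, 14, 15]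
noncomputable def LA : Tb B1 Unit := [(b1_161, (), tp 0 49155),
  (b1_162, (), tp 0 3),
  (b1_163, (), tp 0 1),
  (b1_164, (), tp 2 4),
  (b1_165, (), tp 4 16)]
noncomputable def b1_166 : B1 := mkB1 [2, 3, 0, 1, 6, 7, 4, 5, 10, 11, 8, 9, 14, 15, 12, 13]
noncomputable def b1_167 : B1 := mkB1 [8, 9, 2, 3, 4, 5, 15, 14, 0, 1, 11, 10, 13, 12, 7, 6]
noncomputable def b1_168 : B1 := mkB1 [0, 1, 10, 11, 4, 5, 15, 14, 8, 9, 3, 2, 12, 13, 6, 7]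
noncomputable def LT : Tb B1 Unit := [(b1_166, (), tp 0 50115),
  (b1_59, (), tp 0 771),
  (b1_167, (), tp 0 3),
  (b1_39, (), tp 0 1),
  (rB1, (), tp 2 3084),
  (b1_168, (), tp 2 12),
  (b1_53, (), tp 2 4),
  (TB1_2_12, (), tp 4 48),
  (TB1_2_5, (), tp 4 16),
  (TB1_3_9, (), tp 8 256)]
noncomputable def b1_169 : B1 := mkB1 [2, 3, 0, 1, 7, 6, 5, 4, 10, 11, 8, 9, 15, 14, 13, 12]
noncomputable def b1_170 : B1 := mkB1 [0, 1, 12, 13, 11, 10, 7, 6, 8, 9, 5, 4, 2, 3, 15, 14]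
noncomputable def b1_171 : B1 := mkB1 [12, 13, 14, 15, 9, 8, 11, 10, 5, 4, 7, 6, 0, 1, 2, 3]
noncomputable def lA0 : List B1 := [1, b1_165, b1_169, b1_170, b1_171, b1_162, b1_148]
/-- visibly not conjugate to `e` -/
abbrev NE (t : B1) : Prop := (∃ y ∈ lS, y * y = t) ∨ ∃ b ∈ lF, b * fB1 = t * b
theorem kT : ∀ t : B1, ((∀ a ∈ lA1, t * a = a * t) → In4 zB1 vB1 t) ∧ (t ∈ TB → t ^ 2 ^ 3 = 1 ∧
    t * eB1 * t⁻¹ * eB1 = eB1 * (t * eB1 * t⁻¹) ∧ (ap LT t).isSome = true ∧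
    ((∀ u ∈ LD, Ez zB1 (t * u.1) (u.1 * t)) → (ap LD t).isSome = true) ∧ (t * t = 1 →
      ((∃ x ∈ lE, x * eB1 = t * x) ∨ (∃ x ∈ lT, x * t * x⁻¹ * t ≠ t * (x * t * x⁻¹)) ∨ NE t) ∧ (t * αB = αB * t →
        (ap LD t).isSome = true ∨ (∃ b ∈ lR1, b * rB1 = t * b) ∨ ∃ b ∈ lR2, b * ιB1 = t * b))) :=
  by decide +kernel

theorem kE : ∀ t : B1, Ez zB1 (t * eB1) (eB1 * t) → (t * eB1 = eB1 * t → (t * sB1 * t⁻¹ ∈ TB → t ∈ TB) ∧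
    (t * t = zB1 → t * eB1 * (t * eB1) ≠ 1 → t ∈ lI)) ∧ ∀ a ∈ lI, Ez zB1 (t * a) (a * t) → t ^ 2 ^ 3 = 1 :=
  by decide +kernel

theorem kD : ∀ p ∈ clp LD, p.1 ∈ TB ∧ p.1 * αB = αB * p.1 ∧ (p.1 * p.1 = 1 → NE p.1) ∧
    (p.1 * p.1 = 1 ∨ p.1 * αB * (p.1 * αB) = 1) ∧ (p.2 = 1 ↔ Ez zB1 p.1 1) ∧ (p.1 * p.1 = 1 ↔ p.2 ∉ lq) :=
  all_clp (by decide +kernel)

theorem kA : ∀ p ∈ clp LA, (∀ u ∈ LD, Ez zB1 (p.1 * u.1) (u.1 * p.1)) → Ez zB1 p.1 1 :=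
  all_clp (by decide +kernel)

noncomputable def b1_172 : B1 := mkB1 [2, 3, 1, 0, 14, 15, 12, 13, 10, 11, 9, 8, 7, 6, 5, 4]
noncomputable def b1_173 : B1 := mkB1 [10, 11, 8, 9, 6, 7, 5, 4, 3, 2, 1, 0, 14, 15, 13, 12]
noncomputable def b1_174 : B1 := mkB1 [2, 3, 1, 0, 15, 14, 13, 12, 10, 11, 9, 8, 6, 7, 4, 5]
noncomputable def b1_175 : B1 := mkB1 [14, 15, 5, 4, 2, 3, 8, 9, 7, 6, 13, 12, 10, 11, 1, 0]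
theorem kM : (∀ x ∈ sB1 :: eB1 :: lE ++ lT, x ∈ TB) ∧ (∀ t ∈ LT, ∃ a ∈ lA0, (ap LA a).isSome = true ∧
      (ap LD (a⁻¹ * t.1)).isSome = true) ∧ (∀ d ∈ [d1, d2, d3, d4, ω], ∃ a ∈ [b1_172, b1_173, b1_174, b1_175, αB], ap LD a = some d) ∧
    ap LD αB = some ω ∧ iD ω = jP 63 ∧ (∀ p ∈ lPS, ∀ t ∈ LD, ∃ b ∈ ap LD (p.1 * t.1 * p.1⁻¹),
      iS p.2 * iD t.2.1 = iD b * iS p.2) ∧ (∀ t ∈ LD, ∃ p ∈ LX, p.1 = t.1 ∧ ∃ b ∈ ap LD p.2,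
      iS σx * iD t.2.1 = iD b * iS σx) ∧ lPS.map (·.1) = [ιB1, ρB1, sB1, eB1, fB1, nB1] ∧ ∀ a b : DW, a * b = b * a :=
  by decide +kernel

theorem kK : ιB1 * ιB1 = 1 ∧ ¬ Ez zB1 ιB1 1 ∧ ¬ Ez zB1 ιB1 (ρB1 * ιB1 * ρB1⁻¹) ∧
    Ez zB1 (ιB1 * (ρB1 * ιB1 * ρB1⁻¹)) (ρB1 * ιB1 * ρB1⁻¹ * ιB1) ∧
    Ez zB1 (ρB1 * ρB1 * ιB1) (ιB1 * (ρB1 * ιB1 * ρB1⁻¹) * (ρB1 * ρB1)) ∧ ιB1 * αB = αB * ιB1 ∧ αB * αB = zB1 ∧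
    αB * ιB1 * (αB * ιB1) ≠ 1 ∧ αB * eB1 * (αB * eB1) = 1 ∧ eB1 * eB1 = 1 ∧ ¬ Ez zB1 eB1 1 ∧ eB1 ∈ lA1 ∧ zB1 ∈ lA1 ∧
    vB1 ≠ zB1 ∧ αB * zB1 = αB⁻¹ :=
  by decide +kernel

theorem topD : ∀ {M : Subgroup DW}, (∀ a ∈ [d1, d2, d3, d4, ω], a ∈ M) → M = ⊤ :=
  PE.top_of (by decide +kernel)

theorem topS6 : ∀ {M : Subgroup S6}, (∀ a ∈ σx :: lPS.map (·.2), a ∈ M) → M = ⊤ :=
  PE.top_of (by decide +kernel)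

noncomputable def s6_22 : S6 := mkS6 [2, 3, 0, 1, 4, 5, 6, 7, 8, 9, 10, 11]
noncomputable def s6_23 : S6 := mkS6 [0, 1, 4, 5, 2, 3, 6, 7, 8, 9, 10, 11]
noncomputable def s6_24 : S6 := mkS6 [0, 1, 2, 3, 6, 7, 4, 5, 8, 9, 10, 11]
noncomputable def s6_25 : S6 := mkS6 [0, 1, 2, 3, 4, 5, 8, 9, 6, 7, 10, 11]
theorem kW : ∀ w ∈ gs, ∃ a ∈ [1, d1], ∃ s ∈ [s6_22, s6_23, s6_24, s6_25, TS6_4_10], w = iD a * iS s :=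
  by decide +kernel

noncomputable def s6_26 : S6 := mkS6 [0, 1, 4, 5, 10, 11, 2, 3, 6, 7, 8, 9]
noncomputable def s6_27 : S6 := mkS6 [2, 3, 6, 7, 8, 9, 4, 5, 0, 1, 10, 11]
noncomputable def s6_28 : S6 := mkS6 [6, 7, 2, 3, 8, 9, 4, 5, 10, 11, 0, 1]
noncomputable def s6_29 : S6 := mkS6 [6, 7, 8, 9, 4, 5, 10, 11, 0, 1, 2, 3]
noncomputable def s6_30 : S6 := mkS6 [6, 7, 8, 9, 10, 11, 4, 5, 2, 3, 0, 1]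
noncomputable def s6_31 : S6 := mkS6 [6, 7, 2, 3, 4, 5, 8, 9, 0, 1, 10, 11]
noncomputable def s6_32 : S6 := mkS6 [10, 11, 6, 7, 0, 1, 2, 3, 4, 5, 8, 9]
noncomputable def s6_33 : S6 := mkS6 [2, 3, 0, 1, 8, 9, 4, 5, 10, 11, 6, 7]
noncomputable def lY : List S6 := [s6_26, s6_27, s6_28, s6_29, s6_30, s6_31, s6_32, s6_33]
theorem kS : ∀ σ : S6, ((∀ t ∈ LD, iS σ * iD t.2.1 = iD t.2.1 * iS σ) → σ = 1) ∧ (σ = 1 ∨ ∃ y ∈ lY, ∃ k ∈ [1, 2],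
    cm σ y ^ k ≠ 1 ∧ cm σ y ^ k * cm σ y ^ k = 1) :=
  by decide +kernel

/-- one step of the normalisation -/
abbrev Stp (l : List DW) (d : DW) : Prop := ∀ a : DW, (∀ u ∈ 1 :: l, (a * u ∈ lq ↔ d * u ∈ lq) ∧ (a = u ↔ d = u)) →
  ∃ σ : S6, iS σ * iD a = iD d * iS σ ∧ ∀ u ∈ l, iS σ * iD u = iD u * iS σ
theorem kN : Stp [ω] d1 ∧ Stp [d1, ω] d2 ∧ Stp [d2, d1, ω] d3 ∧ Stp [d3, d2, d1, ω] d4 :=
  by decide +kernel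

/-- the words in `B1` and `c` -/
abbrev OK4 (L : Tb B1 B1) (wf wr wh wx l : List B1) (y b k x : B1) : Prop := run L wf fB1 = some (y * y) ∧
  run L wr rB1 = some (b * eB1 * b⁻¹) ∧ run L wh ιB1 = some (k⁻¹ * eB1 * k) ∧ run L wh zB1 = some zB1 ∧
  run L wx zB1 = some zB1 ∧ ap L zB1 = some vB1 ∧ ∀ p ∈ LX, (∃ u ∈ run L wx p.1, Ez zB1 (x * u * x⁻¹) p.2) ∨
    Trk L wx lA1 l zB1 vB1 p.1 (x⁻¹ * p.2 * x)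
noncomputable def b1_176 : B1 := mkB1 [0, 1, 5, 4, 3, 2, 7, 6, 9, 8, 12, 13, 10, 11, 14, 15]
noncomputable def b1_177 : B1 := mkB1 [9, 8, 12, 13, 10, 11, 14, 15, 1, 0, 4, 5, 2, 3, 6, 7]
noncomputable def b1_178 : B1 := mkB1 [15, 14, 13, 12, 10, 11, 8, 9, 6, 7, 4, 5, 3, 2, 1, 0]
noncomputable def b1_179 : B1 := mkB1 [14, 15, 2, 3, 4, 5, 8, 9, 7, 6, 10, 11, 12, 13, 1, 0]
theorem ok4_0 : OK4 LW10 [b1_110] [1] [1, b1_90, b1_76, b1_90] [1, b1_132, b1_132] [b1_176, zB1, b1_177, b1_178, b1_179] b1_95 b1_111 b1_123 1 :=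
  by decide +kernel

noncomputable def b1_180 : B1 := mkB1 [14, 15, 12, 13, 11, 10, 9, 8, 7, 6, 5, 4, 2, 3, 0, 1]
theorem ok4_1 : OK4 LW11 [b1_110] [1] [1, b1_90, b1_76, b1_90] [nB1, b1_132, b1_132] [b1_176, zB1, b1_177, b1_180, b1_179] b1_106 b1_111 b1_127 1 :=
  by decide +kernel

end CF.Yc
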